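import Mathlib
import Cfsg.Agent.Lib.Helper23.Syl
import Cfsg.Agent.Lib.Helper23.Count
import Cfsg.Agent.Lib.Helper76.SylPrime

/-!
# S4274 project (helper11), piece T1

Exact count of the elements of order divisible by `p` when the Sylow `p`-subgroups have
order `p`: `#{g | p ∣ orderOf g} = n_p * (p - 1) * c` where `|C(P)| = p * c`.
-/

set_option autoImplicit false
set_option linter.style.haveILetI false

namespace Cfsg.Agent.S4274T

open Subgroup

variable {G : Type*} [Group G] [Finite G]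

omit [Finite G] in
/-- centralizer of the image of a subgroup under an automorphism. -/
theorem T1_centralizer_map (H : Subgroup G) (φ : G ≃* G) :
    Subgroup.centralizer ((H.map φ.toMonoidHom : Subgroup G) : Set G) =
      (Subgroup.centralizer (H : Set G)).map φ.toMonoidHom := by
  ext x
  constructor
  · intro hx
    rw [Subgroup.mem_centralizer_iff] at hx
    refine ⟨φ.symm x, ?_, by simp⟩
    rw [SetLike.mem_coe, Subgroup.mem_centralizer_iff]
    intro h hh
    have h1 := hx (φ h) ⟨h, hh, rfl⟩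
    apply φ.injective
    simpa using h1
  · rintro ⟨c, hc, rfl⟩
    rw [SetLike.mem_coe, Subgroup.mem_centralizer_iff] at hc
    rw [Subgroup.mem_centralizer_iff]
    rintro _ ⟨h, hh, rfl⟩
    have h1 := hc h hh
    have h2 := congrArg φ h1
    simpa using h2

/-- the centralizers of two Sylow `p`-subgroups have the same order. -/
theorem T1_card_centralizer_sylow (p : ℕ) [Fact p.Prime] (P Q : Sylow p G) :
    Nat.card (centralizer ((Q : Subgroup G) : Set G)) =
      Nat.card (centralizer ((P : Subgroup G) : Set G)) := by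
  obtain ⟨g, hg⟩ := MulAction.exists_smul_eq G P Q
  have hmap : (P : Subgroup G).map (MulAut.conj g).toMonoidHom = (Q : Subgroup G) := by
    rw [← hg, Sylow.smul_def, Sylow.pointwise_smul_def, Subgroup.pointwise_smul_def]; rfl
  rw [← hmap, T1_centralizer_map, Subgroup.card_map_of_injective (MulAut.conj g).injective]

/-- an element of `C(Q)` killed by `p` lies in the Sylow `p`-subgroup `Q`. -/
theorem T1_mem_of_pow_eq_one (p : ℕ) [Fact p.Prime] (Q : Sylow p G) (u : G)
    (hu : u ∈ centralizer ((Q : Subgroup G) : Set G)) (hup : u ^ p = 1) :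
    u ∈ (Q : Subgroup G) := by
  have hz : IsPGroup p (zpowers u) := by
    rintro ⟨x, hx⟩
    obtain ⟨k, rfl⟩ := mem_zpowers_iff.mp hx
    refine ⟨1, ?_⟩
    apply Subtype.ext
    show (u ^ k) ^ (p ^ 1) = 1
    rw [pow_one, ← zpow_natCast, ← zpow_mul, mul_comm, zpow_mul, zpow_natCast, hup, one_zpow]
  have hle : zpowers u ≤ normalizer ((Q : Subgroup G) : Set G) := by
    rw [zpowers_le]
    exact Subgroup.centralizer_le_normalizer _ hu
  have hsup : IsPGroup p (zpowers u ⊔ (Q : Subgroup G) : Subgroup G) :=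
    IsPGroup.to_sup_of_normal_right' hz Q.2 hle
  have heq := Q.is_maximal' hsup le_sup_right
  have hu' : u ∈ zpowers u ⊔ (Q : Subgroup G) := mem_sup_left (mem_zpowers u)
  rw [heq] at hu'
  exact hu'

/-- `p` does not divide `c`. -/
theorem T1_not_dvd (p : ℕ) [Fact p.Prime]
    (hc : ∀ Q : Sylow p G, Nat.card (Q : Subgroup G) = p) (P : Sylow p G) (c : ℕ)
    (hC : Nat.card (centralizer ((P : Subgroup G) : Set G)) = p * c) : ¬ p ∣ c := by
  intro h
  have hp : p.Prime := Fact.out
  have h1 : p ^ 2 ∣ Nat.card G := by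
    have := Subgroup.card_subgroup_dvd_card (centralizer ((P : Subgroup G) : Set G))
    rw [hC] at this
    rw [pow_two]
    exact (Nat.mul_dvd_mul_left p h).trans this
  have h2 := Sylow.card_eq_multiplicity P
  rw [hc P] at h2
  have hk : 1 = (Nat.card G).factorization p :=
    Nat.pow_right_injective hp.two_le (by simpa using h2)
  have h3 : 2 ≤ (Nat.card G).factorization p :=
    (hp.pow_dvd_iff_le_factorization (Nat.card_pos.ne')).mp h1
  omega

/-- a `p`-regular element of `C(Q)` is killed by `c`. -/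
theorem T1_regular_pow (p : ℕ) [Fact p.Prime] (Q : Sylow p G) (c : ℕ)
    (hCQ : Nat.card (centralizer ((Q : Subgroup G) : Set G)) = p * c) (k : G)
    (hk : k ∈ centralizer ((Q : Subgroup G) : Set G)) (hkp : ¬ p ∣ orderOf k) : k ^ c = 1 := by
  have hp : p.Prime := Fact.out
  have h1 : orderOf k ∣ p * c := by
    rw [← hCQ]
    exact Subgroup.orderOf_dvd_natCard _ hk
  have h2 : (orderOf k).Coprime p := (Nat.Prime.coprime_iff_not_dvd hp).mpr hkp |>.symm
  exact orderOf_dvd_iff_pow_eq_one.mp (h2.dvd_of_dvd_mul_left h1)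

/-- the number of `p`-regular elements of `C(Q)`. -/
theorem T1_card_regular (p : ℕ) [Fact p.Prime]
    (hc : ∀ Q : Sylow p G, Nat.card (Q : Subgroup G) = p) (Q : Sylow p G) (c : ℕ)
    (hCQ : Nat.card (centralizer ((Q : Subgroup G) : Set G)) = p * c) :
    Nat.card {g : G // g ∈ centralizer ((Q : Subgroup G) : Set G) ∧ ¬ p ∣ orderOf g} = c := by
  have hp : p.Prime := Fact.out
  have hpc : ¬ p ∣ c := T1_not_dvd p hc Q c hCQ
  have hcop : c.Coprime p := (Nat.Prime.coprime_iff_not_dvd hp).mpr hpc |>.symm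
  obtain ⟨m, -, hm⟩ := Nat.exists_mul_mod_eq_one_of_coprime hcop hp.one_lt
  have hQC := Cfsg.Agent.Lib.Helper76.SylPrime.sylow_le_centralizer hc Q
  -- recover `y` from `y * k`
  have hrec : ∀ y k : G, y ∈ (Q : Subgroup G) → k ∈ centralizer ((Q : Subgroup G) : Set G) →
      ¬ p ∣ orderOf k → ((y * k) ^ c) ^ m = y := by
    intro y k hy hk hkp
    have hcomm : Commute y k := Subgroup.mem_centralizer_iff.mp hk y hy
    have hyp : y ^ p = 1 := Cfsg.Agent.Lib.Helper76.SylPrime.pow_eq_one hc Q y hy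
    rw [hcomm.mul_pow, T1_regular_pow p Q c hCQ k hk hkp, mul_one, ← pow_mul,
      pow_eq_pow_mod _ hyp, hm, pow_one]
  let f : ↥(Q : Subgroup G) ×
      {g : G // g ∈ centralizer ((Q : Subgroup G) : Set G) ∧ ¬ p ∣ orderOf g} →
      centralizer ((Q : Subgroup G) : Set G) :=
    fun x => ⟨x.1.1 * x.2.1, mul_mem (hQC x.1.2) x.2.2.1⟩
  have hf : Function.Bijective f := by
    constructor
    · rintro ⟨⟨y, hy⟩, ⟨k, hk, hkp⟩⟩ ⟨⟨y', hy'⟩, ⟨k', hk', hkp'⟩⟩ h
      have h' : y * k = y' * k' := congrArg Subtype.val h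
      have e1 := hrec y k hy hk hkp
      have e2 := hrec y' k' hy' hk' hkp'
      rw [h', e2] at e1
      subst e1
      have e3 : k = k' := mul_left_cancel h'
      subst e3
      rfl
    · rintro ⟨g, hg⟩
      have hgo : g ^ (p * c) = 1 := by
        rw [← hCQ]
        have := pow_card_eq_one' (G := centralizer ((Q : Subgroup G) : Set G)) (x := ⟨g, hg⟩)
        exact congrArg Subtype.val this
      -- c * m = p * t + 1
      obtain ⟨t, ht⟩ : ∃ t, c * m = p * t + 1 := ⟨c * m / p, by
        have := Nat.div_add_mod (c * m) p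
        omega⟩
      have hu : g ^ (c * m) ∈ (Q : Subgroup G) := by
        apply T1_mem_of_pow_eq_one p Q _ (pow_mem hg _)
        rw [← pow_mul, show c * m * p = p * c * m by ring, pow_mul, hgo, one_pow]
      have hkc : ((g ^ (p * t))⁻¹) ^ c = 1 := by
        rw [inv_pow, ← pow_mul, show p * t * c = p * c * t by ring, pow_mul, hgo, one_pow,
          inv_one]
      have hkp : ¬ p ∣ orderOf ((g ^ (p * t))⁻¹) := by
        intro hdvd
        exact hpc (hdvd.trans (orderOf_dvd_iff_pow_eq_one.mpr hkc))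
      refine ⟨⟨⟨g ^ (c * m), hu⟩, ⟨(g ^ (p * t))⁻¹, inv_mem (pow_mem hg _), hkp⟩⟩, ?_⟩
      apply Subtype.ext
      show g ^ (c * m) * (g ^ (p * t))⁻¹ = g
      rw [ht, pow_succ', mul_assoc, mul_inv_cancel, mul_one]
  have hcard := Nat.card_eq_of_bijective f hf
  rw [Nat.card_prod, hc Q, hCQ] at hcard
  exact Nat.eq_of_mul_eq_mul_left hp.pos hcard

/-- the number of elements of `C(Q)` of order divisible by `p`. -/
theorem T1_card_singular (p : ℕ) [Fact p.Prime]
    (hc : ∀ Q : Sylow p G, Nat.card (Q : Subgroup G) = p) (Q : Sylow p G) (c : ℕ)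
    (hCQ : Nat.card (centralizer ((Q : Subgroup G) : Set G)) = p * c) :
    Nat.card {g : G // g ∈ centralizer ((Q : Subgroup G) : Set G) ∧ p ∣ orderOf g} =
      (p - 1) * c := by
  classical
  have hp : p.Prime := Fact.out
  have h1 : Nat.card {x : centralizer ((Q : Subgroup G) : Set G) // p ∣ orderOf (x : G)} +
      Nat.card {x : centralizer ((Q : Subgroup G) : Set G) // ¬ p ∣ orderOf (x : G)} =
      Nat.card (centralizer ((Q : Subgroup G) : Set G)) := by
    rw [← Nat.card_sum]
    exact Nat.card_congr (Equiv.sumCompl _)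
  have h2 : Nat.card {x : centralizer ((Q : Subgroup G) : Set G) // p ∣ orderOf (x : G)} =
      Nat.card {g : G // g ∈ centralizer ((Q : Subgroup G) : Set G) ∧ p ∣ orderOf g} :=
    Nat.card_congr (Equiv.subtypeSubtypeEquivSubtypeInter
      (fun g : G => g ∈ centralizer ((Q : Subgroup G) : Set G)) (fun g : G => p ∣ orderOf g))
  have h3 : Nat.card {x : centralizer ((Q : Subgroup G) : Set G) // ¬ p ∣ orderOf (x : G)} =
      Nat.card {g : G // g ∈ centralizer ((Q : Subgroup G) : Set G) ∧ ¬ p ∣ orderOf g} :=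
    Nat.card_congr (Equiv.subtypeSubtypeEquivSubtypeInter
      (fun g : G => g ∈ centralizer ((Q : Subgroup G) : Set G)) (fun g : G => ¬ p ∣ orderOf g))
  rw [h2, h3, T1_card_regular p hc Q c hCQ, hCQ] at h1
  have h4 : p * c = (p - 1) * c + c := by
    have := hp.pos
    obtain ⟨q, rfl⟩ : ∃ q, p = q + 1 := ⟨p - 1, by omega⟩
    simp only [Nat.add_sub_cancel]
    ring
  omega

/-- an element of order divisible by `p` centralizes at most one Sylow `p`-subgroup. -/
theorem T1_unique (p : ℕ) [Fact p.Prime]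
    (hc : ∀ Q : Sylow p G, Nat.card (Q : Subgroup G) = p) (Q Q' : Sylow p G) (g : G)
    (hg : g ∈ centralizer ((Q : Subgroup G) : Set G))
    (hg' : g ∈ centralizer ((Q' : Subgroup G) : Set G)) (hpg : p ∣ orderOf g) : Q = Q' := by
  have hp : p.Prime := Fact.out
  obtain ⟨j, hj⟩ := Cfsg.Agent.Lib.Helper23.exists_pow_orderOf_eq_prime g hpg (orderOf_pos g).ne'
  have hxp : (g ^ j) ^ p = 1 := by rw [← hj]; exact pow_orderOf_eq_one _
  have hx1 : g ^ j ≠ 1 := by
    intro h
    rw [h, orderOf_one] at hj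
    exact hp.one_lt.ne hj
  have hxQ := T1_mem_of_pow_eq_one p Q (g ^ j) (pow_mem hg j) hxp
  have hxQ' := T1_mem_of_pow_eq_one p Q' (g ^ j) (pow_mem hg' j) hxp
  have e1 := Cfsg.Agent.Lib.Helper76.SylPrime.zpowers_eq hc Q (g ^ j) hxQ hx1
  have e2 := Cfsg.Agent.Lib.Helper76.SylPrime.zpowers_eq hc Q' (g ^ j) hxQ' hx1
  exact Sylow.ext (e1.symm.trans e2)

/-- an element of order divisible by `p` centralizes some Sylow `p`-subgroup. -/
theorem T1_exists (p : ℕ) [Fact p.Prime]
    (hc : ∀ Q : Sylow p G, Nat.card (Q : Subgroup G) = p) (g : G) (hpg : p ∣ orderOf g) :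
    ∃ Q : Sylow p G, g ∈ centralizer ((Q : Subgroup G) : Set G) := by
  have hp : p.Prime := Fact.out
  obtain ⟨j, hj⟩ := Cfsg.Agent.Lib.Helper23.exists_pow_orderOf_eq_prime g hpg (orderOf_pos g).ne'
  have hx1 : g ^ j ≠ 1 := by
    intro h
    rw [h, orderOf_one] at hj
    exact hp.one_lt.ne hj
  have hz : Nat.card (zpowers (g ^ j)) = p ^ 1 := by rw [Nat.card_zpowers, hj, pow_one]
  obtain ⟨Q, hQ⟩ := (IsPGroup.of_card hz).exists_le_sylow
  refine ⟨Q, ?_⟩
  exact Cfsg.Agent.Lib.Helper76.SylPrime.mem_centralizer_of_commute hc Q (g ^ j)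
    (hQ (mem_zpowers _)) hx1 g (Commute.pow_self g j).eq

theorem card_dvd_orderOf (p : ℕ) [Fact p.Prime]
    (hc : ∀ Q : Sylow p G, Nat.card (Q : Subgroup G) = p) (P : Sylow p G) (c : ℕ)
    (hC : Nat.card (centralizer ((P : Subgroup G) : Set G)) = p * c) :
    Nat.card {g : G // p ∣ orderOf g} = Nat.card (Sylow p G) * ((p - 1) * c) := by
  classical
  letI : Fintype (Sylow p G) := Fintype.ofFinite _
  let F : (Σ Q : Sylow p G,
      {g : G // g ∈ centralizer ((Q : Subgroup G) : Set G) ∧ p ∣ orderOf g}) →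
      {g : G // p ∣ orderOf g} := fun x => ⟨x.2.1, x.2.2.2⟩
  have hF : Function.Bijective F := by
    constructor
    · rintro ⟨Q, g, hg, hpg⟩ ⟨Q', g', hg', hpg'⟩ h
      have h' : g = g' := congrArg Subtype.val h
      subst h'
      have hQ : Q = Q' := T1_unique p hc Q Q' g hg hg' hpg
      subst hQ
      rfl
    · rintro ⟨g, hpg⟩
      obtain ⟨Q, hQ⟩ := T1_exists p hc g hpg
      exact ⟨⟨Q, g, hQ, hpg⟩, rfl⟩
  rw [← Nat.card_eq_of_bijective F hF, Nat.card_sigma]
  have hS : ∀ Q : Sylow p G,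
      Nat.card {g : G // g ∈ centralizer ((Q : Subgroup G) : Set G) ∧ p ∣ orderOf g} =
        (p - 1) * c := fun Q =>
    T1_card_singular p hc Q c ((T1_card_centralizer_sylow p P Q).trans hC)
  simp only [hS]
  rw [Finset.sum_const, Finset.card_univ, smul_eq_mul, Nat.card_eq_fintype_card]

end Cfsg.Agent.S4274T
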