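import Mathlib
import Cfsg.Agent.Lib.Helper81.AQDefs

/-!
# Project AQ (helper81, S3911), piece CARD0, backup copy (helper62)

If `L = L' M` with `M` normal of order prime to `p`, then `L'` and `L` have the same `p`-part.
-/

set_option autoImplicit false

namespace Cfsg.Agent.Lib.Helper81.AQ

variable {G : Type*} [Group G]

/-- `|H ⊓ K| * |K : H ⊓ K| = |K|` -/
theorem val_eq_of_not_dvd_card [Finite G] (H K : Subgroup G) :
    Nat.card ↥(H ⊓ K) * H.relIndex K = Nat.card K := by
  have h1 := Subgroup.card_mul_index (H.subgroupOf K)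
  have h2 : Nat.card ↥(H.subgroupOf K) = Nat.card ↥(H ⊓ K) := by
    rw [← Subgroup.inf_subgroupOf_right H K]
    exact Nat.card_congr (Subgroup.subgroupOfEquivOfLe inf_le_right).toEquiv
  rw [h2] at h1
  exact h1

-- piece CARD0
theorem val_eq_of_not_dvd [Finite G] (M : Subgroup G) [M.Normal] (L L' : Subgroup G)
    (hML : M ≤ L) (hL' : L' ≤ L) (hsup : L' ⊔ M = L) (p : ℕ) [Fact p.Prime]
    (hpM : ¬ p ∣ Nat.card M) :
    (Nat.card L').factorization p = (Nat.card L).factorization p := by
  have hpos : ∀ K : Subgroup G, Nat.card K ≠ 0 := fun K => Nat.card_pos.ne'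
  have hL := val_eq_of_not_dvd_card M L
  rw [inf_of_le_left hML] at hL
  have hr : M.relIndex L' = M.relIndex L := by
    rw [← hsup, Subgroup.relIndex_sup_right]
  have hL'c := val_eq_of_not_dvd_card M L'
  rw [hr] at hL'c
  have hr0 : M.relIndex L ≠ 0 := by
    intro h
    rw [h, mul_zero] at hL
    exact hpos L hL.symm
  have hpM' : ¬ p ∣ Nat.card ↥(M ⊓ L') :=
    fun h => hpM (h.trans (Subgroup.card_dvd_of_le inf_le_left))
  rw [← hL, ← hL'c, Nat.factorization_mul (hpos M) hr0, Nat.factorization_mul (hpos _) hr0,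
    Finsupp.add_apply, Finsupp.add_apply, Nat.factorization_eq_zero_of_not_dvd hpM,
    Nat.factorization_eq_zero_of_not_dvd hpM']

end Cfsg.Agent.Lib.Helper81.AQ
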