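import Mathlib
import Cfsg.Agent.Lib.Helper81.AQDefs

/-!
# Project AQ (helper81, S3911), piece CARD1, duplicate copy (helper62)

If all `p`-subgroups are cyclic, `L = L' M` with `M` normal and `p ∣ |L : M|`, then `L'` contains
a Sylow `p`-subgroup of `L`.  Proof by counting inside a cyclic Sylow `p`-subgroup of `G`, whose
subgroups form a chain.
-/

set_option autoImplicit false

namespace Cfsg.Agent.Lib.Helper81.AQ

variable {G : Type*} [Group G]

/-- in a cyclic subgroup `C`, a subgroup `H` contains every `x ∈ C` with `x ^ |H| = 1` -/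
theorem val_eq_of_cyclic_mem [Finite G] (C H : Subgroup G) (hC : IsCyclic C)
    (hHC : H ≤ C) (x : G) (hxC : x ∈ C) (hx : x ^ Nat.card H = 1) : x ∈ H := by
  classical
  have : Fintype C := Fintype.ofFinite C
  have hpos : 0 < Nat.card H := Nat.card_pos
  have h1 := IsCyclic.card_pow_eq_one_le (α := C) hpos
  have key : ∀ T : Finset C, (∀ a : C, a ∈ T ↔ a ^ Nat.card H = 1) → T.card ≤ Nat.card H →
      x ∈ H := by
    intro T hT hTc
    have hsub : (Finset.univ.filter (fun a : C => (a : G) ∈ H)) ⊆ T := by
      intro a ha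
      rw [Finset.mem_filter] at ha
      rw [hT]
      have h3 : (a : G) ^ Nat.card H = 1 := by
        have h4 := orderOf_dvd_natCard (⟨(a : G), ha.2⟩ : H)
        rw [Subgroup.orderOf_mk] at h4
        exact orderOf_dvd_iff_pow_eq_one.1 h4
      apply Subtype.ext
      simpa using h3
    have hcard : (Finset.univ.filter (fun a : C => (a : G) ∈ H)).card = Nat.card H := by
      rw [← Fintype.card_subtype, ← Nat.card_eq_fintype_card]
      exact Nat.card_congr (Subgroup.subgroupOfEquivOfLe hHC).toEquiv
    have heq := Finset.eq_of_subset_of_card_le hsub (hTc.trans_eq hcard.symm)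
    have hxT : (⟨x, hxC⟩ : C) ∈ T := by
      rw [hT]
      apply Subtype.ext
      simpa using hx
    rw [← heq, Finset.mem_filter] at hxT
    exact hxT.2
  exact key _ (fun a => by simp) h1

/-- `|H ⊓ K| * |K : H ⊓ K| = |K|` -/
theorem val_eq_of_cyclic_card [Finite G] (H K : Subgroup G) :
    Nat.card ↥(H ⊓ K) * H.relIndex K = Nat.card K := by
  have h1 := Subgroup.card_mul_index (H.subgroupOf K)
  have h2 : Nat.card ↥(H.subgroupOf K) = Nat.card ↥(H ⊓ K) := by
    rw [← Subgroup.inf_subgroupOf_right H K]
    exact Nat.card_congr (Subgroup.subgroupOfEquivOfLe inf_le_right).toEquiv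
  rw [h2] at h1
  exact h1

-- piece CARD1
theorem val_eq_of_cyclic [Finite G] (M : Subgroup G) [M.Normal] (L L' : Subgroup G)
    (hML : M ≤ L) (hab : AbMod L M) (hL' : L' ≤ L) (hsup : L' ⊔ M = L) (p : ℕ) [Fact p.Prime]
    (hpd : p ∣ M.relIndex L) (hcyc : ∀ Q : Subgroup G, IsPGroup p Q → IsCyclic Q) :
    (Nat.card L').factorization p = (Nat.card L).factorization p := by
  have hp : p.Prime := Fact.out
  have hvpow : ∀ n : ℕ, (p ^ n).factorization p = n := fun n => by
    rw [hp.factorization_pow, Finsupp.single_eq_same]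
  have hmono : ∀ X Y : ℕ, Y ≠ 0 → X ∣ Y → X.factorization p ≤ Y.factorization p :=
    fun X Y hY h => (hp.pow_dvd_iff_le_factorization hY).1 ((Nat.ordProj_dvd X p).trans h)
  have hpos : ∀ K : Subgroup G, Nat.card K ≠ 0 := fun K => Nat.card_pos.ne'
  -- index computations
  have hL := val_eq_of_cyclic_card M L
  rw [inf_of_le_left hML] at hL
  have hr : M.relIndex L' = M.relIndex L := by
    rw [← hsup, Subgroup.relIndex_sup_right]
  have hL'c := val_eq_of_cyclic_card M L'
  rw [hr] at hL'c
  have hr0 : M.relIndex L ≠ 0 := by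
    intro h
    rw [h, mul_zero] at hL
    exact hpos L hL.symm
  have hd : 0 < (M.relIndex L).factorization p := hp.factorization_pos_of_dvd hr0 hpd
  have hvL : (Nat.card L).factorization p =
      (Nat.card M).factorization p + (M.relIndex L).factorization p := by
    rw [← hL, Nat.factorization_mul (hpos M) hr0, Finsupp.add_apply]
  have hvL' : (Nat.card L').factorization p =
      (Nat.card ↥(M ⊓ L')).factorization p + (M.relIndex L).factorization p := by
    rw [← hL'c, Nat.factorization_mul (hpos _) hr0, Finsupp.add_apply]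
  have hle : (Nat.card L').factorization p ≤ (Nat.card L).factorization p :=
    hmono _ _ (hpos L) (Subgroup.card_dvd_of_le hL')
  -- a Sylow subgroup of `L'` inside a Sylow subgroup of `G`
  obtain ⟨P'⟩ : Nonempty (Sylow p ↥L') := inferInstance
  have hQ'card : Nat.card ↥((P' : Subgroup ↥L').map L'.subtype) =
      p ^ (Nat.card L').factorization p := by
    rw [← P'.card_eq_multiplicity]
    exact Nat.card_congr
      (Subgroup.equivMapOfInjective _ _ (Subgroup.subtype_injective L')).toEquiv.symm
  have hQ'L' : (P' : Subgroup ↥L').map L'.subtype ≤ L' := Subgroup.map_subtype_le _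
  have hQ'p : IsPGroup p ↥((P' : Subgroup ↥L').map L'.subtype) := IsPGroup.of_card hQ'card
  obtain ⟨Pg, hPg⟩ := hQ'p.exists_le_sylow
  have hPgc : IsCyclic (Pg : Subgroup G) := hcyc Pg Pg.isPGroup'
  have hPgcard := Pg.card_eq_multiplicity
  -- the intersection with `M`
  have hNp : IsPGroup p ↥((Pg : Subgroup G) ⊓ M) := Pg.isPGroup'.to_le inf_le_left
  obtain ⟨n₀, hn₀⟩ := IsPGroup.iff_card.1 hNp
  have hMN : (Nat.card M).factorization p ≤ n₀ := by
    have h1 := val_eq_of_cyclic_card M ((Pg : Subgroup G) ⊔ M)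
    rw [inf_of_le_left le_sup_right, Subgroup.relIndex_sup_right] at h1
    have h2 := val_eq_of_cyclic_card M (Pg : Subgroup G)
    rw [inf_comm, hn₀, hPgcard] at h2
    have hri0 : M.relIndex (Pg : Subgroup G) ≠ 0 := by
      intro h
      rw [h, mul_zero] at h2
      exact (pow_pos hp.pos _).ne' h2.symm
    have h3 : (Nat.card M * M.relIndex (Pg : Subgroup G)).factorization p ≤
        (Nat.card G).factorization p := by
      apply hmono _ _ Nat.card_pos.ne'
      rw [h1]
      exact Subgroup.card_subgroup_dvd_card _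
    rw [Nat.factorization_mul (hpos M) hri0, Finsupp.add_apply] at h3
    have h4 := congrArg (fun t => t.factorization p) h2
    rw [Nat.factorization_mul (pow_pos hp.pos _).ne' hri0, Finsupp.add_apply, hvpow, hvpow] at h4
    omega
  -- the chain property
  rcases le_or_gt n₀ ((Nat.card L').factorization p) with hcase | hcase
  · have hNQ : (Pg : Subgroup G) ⊓ M ≤ (P' : Subgroup ↥L').map L'.subtype := by
      intro x hx
      apply val_eq_of_cyclic_mem (Pg : Subgroup G) _ hPgc hPg x hx.1
      rw [hQ'card]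
      have h1 : (⟨x, hx⟩ : ↥((Pg : Subgroup G) ⊓ M)) ^ Nat.card ↥((Pg : Subgroup G) ⊓ M) = 1 :=
        pow_card_eq_one'
      have h2 : x ^ p ^ n₀ = 1 := by
        have h4 := congrArg Subtype.val h1
        rw [hn₀] at h4
        simpa using h4
      obtain ⟨e, he⟩ : ∃ e, (Nat.card L').factorization p = n₀ + e := ⟨_, (Nat.add_sub_cancel' hcase).symm⟩
      rw [he, pow_add, pow_mul, h2, one_pow]
    have hN2 : (Pg : Subgroup G) ⊓ M ≤ M ⊓ L' := le_inf inf_le_right (hNQ.trans hQ'L')
    have h5 := hmono _ _ (hpos _) (Subgroup.card_dvd_of_le hN2)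
    rw [hn₀, hvpow] at h5
    omega
  · exfalso
    have hQN : (P' : Subgroup ↥L').map L'.subtype ≤ (Pg : Subgroup G) ⊓ M := by
      intro x hx
      apply val_eq_of_cyclic_mem (Pg : Subgroup G) _ hPgc inf_le_left x (hPg hx)
      rw [hn₀]
      have h1 : (⟨x, hx⟩ : ↥((P' : Subgroup ↥L').map L'.subtype)) ^
          Nat.card ↥((P' : Subgroup ↥L').map L'.subtype) = 1 := pow_card_eq_one'
      have h2 : x ^ p ^ (Nat.card L').factorization p = 1 := by
        have h4 := congrArg Subtype.val h1
        rw [hQ'card] at h4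
        simpa using h4
      obtain ⟨e, he⟩ : ∃ e, n₀ = (Nat.card L').factorization p + e :=
        ⟨_, (Nat.add_sub_cancel' hcase.le).symm⟩
      rw [he, pow_add, pow_mul, h2, one_pow]
    have hQ2 : (P' : Subgroup ↥L').map L'.subtype ≤ M ⊓ L' :=
      le_inf (hQN.trans inf_le_right) hQ'L'
    have h5 := hmono _ _ (hpos _) (Subgroup.card_dvd_of_le hQ2)
    rw [hQ'card, hvpow] at h5
    omega

end Cfsg.Agent.Lib.Helper81.AQ
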