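import Mathlib
import Cfsg.Agent.Lib.Helper4.CharClosure
import Cfsg.Agent.Lib.Helper82.CharCore

set_option autoImplicit false
set_option maxHeartbeats 400000

namespace Cfsg.Agent.Lib.Helper62

open Cfsg
open scoped ComplexConjugate

section Arith

theorem arith_A1 (D1 D2 D3 : ℤ) (h1 : 1 ≤ D1) (h2 : 1 ≤ D2) (h3 : 1 ≤ D3)
    (hs : 1 + D1 + D2 - D3 = 0)
    (hp : D1 * D2 * D3 + D2 * D3 + D1 * D3 - D1 * D2 = 0) : False := by
  have e : D3 = 1 + D1 + D2 := by linarith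
  subst e
  nlinarith [mul_pos (by linarith : (0:ℤ) < D1) (by linarith : (0:ℤ) < D2),
    mul_pos (mul_pos (by linarith : (0:ℤ) < D1) (by linarith : (0:ℤ) < D2))
      (by linarith : (0:ℤ) < 1 + D1 + D2)]

theorem arith_A2 (D1 D2 D3 : ℤ) (h1 : 1 ≤ D1) (h2 : 1 ≤ D2) (h3 : 1 ≤ D3)
    (hs : 1 + D1 - D2 - D3 = 0)
    (hp : D1 * D2 * D3 + D2 * D3 - D1 * D3 - D1 * D2 = 0) :
    (D2 = 1 ∧ D1 = D3) ∨ (D3 = 1 ∧ D1 = D2) := by
  have e : D1 = D2 + D3 - 1 := by linarith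
  subst e
  by_cases h2' : D2 = 1
  · left; exact ⟨h2', by linarith⟩
  by_cases h3' : D3 = 1
  · right; exact ⟨h3', by linarith⟩
  exfalso
  have h2'' : 2 ≤ D2 := by omega
  have h3'' : 2 ≤ D3 := by omega
  nlinarith [mul_nonneg (by linarith : (0:ℤ) ≤ D2 - 2) (by linarith : (0:ℤ) ≤ D3 - 2),
    mul_nonneg (by linarith : (0:ℤ) ≤ D2 + D3) (mul_nonneg (by linarith : (0:ℤ) ≤ D2 - 2) (by linarith : (0:ℤ) ≤ D3 - 2))]

theorem arith_A0 (e1 e2 e3 D1 D2 D3 : ℤ) (he1 : e1 = 1 ∨ e1 = -1) (he2 : e2 = 1 ∨ e2 = -1)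
    (he3 : e3 = 1 ∨ e3 = -1) (h1 : 1 ≤ D1) (h2 : 1 ≤ D2) (h3 : 1 ≤ D3)
    (hs : 1 + e1 * D1 + e2 * D2 + e3 * D3 = 0)
    (hp : D1 * D2 * D3 + e1 * (D2 * D3) + e2 * (D1 * D3) + e3 * (D1 * D2) = 0) :
    (e1 = -1 ∧ D1 = 1 ∧ D2 = D3 ∧ e2 = -e3) ∨ (e2 = -1 ∧ D2 = 1 ∧ D1 = D3 ∧ e1 = -e3) ∨
      (e3 = -1 ∧ D3 = 1 ∧ D1 = D2 ∧ e1 = -e2) := by
  rcases he1 with rfl | rfl <;> rcases he2 with rfl | rfl <;> rcases he3 with rfl | rfl
  · exfalso; linarith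
  · exfalso; exact arith_A1 D1 D2 D3 h1 h2 h3 (by linarith) (by linarith)
  · exfalso; exact arith_A1 D1 D3 D2 h1 h3 h2 (by linarith) (by linarith)
  · rcases arith_A2 D1 D2 D3 h1 h2 h3 (by linarith) (by linarith) with ⟨h, h'⟩ | ⟨h, h'⟩
    · right; left; exact ⟨rfl, h, h', by norm_num⟩
    · right; right; exact ⟨rfl, h, h', by norm_num⟩
  · exfalso; exact arith_A1 D2 D3 D1 h2 h3 h1 (by linarith) (by linarith)
  · rcases arith_A2 D2 D1 D3 h2 h1 h3 (by linarith) (by linarith) with ⟨h, h'⟩ | ⟨h, h'⟩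
    · left; exact ⟨rfl, h, h', by norm_num⟩
    · right; right; exact ⟨rfl, h, h'.symm, by norm_num⟩
  · rcases arith_A2 D3 D1 D2 h3 h1 h2 (by linarith) (by linarith) with ⟨h, h'⟩ | ⟨h, h'⟩
    · left; exact ⟨rfl, h, h'.symm, by norm_num⟩
    · right; left; exact ⟨rfl, h, h'.symm, by norm_num⟩
  · exfalso; linarith

/-- one negative sign (on the third) -/
theorem arith_B1 (n D1 D2 D3 : ℤ) (h1 : 1 ≤ D1) (h2 : 1 ≤ D2) (h3 : 1 ≤ D3)
    (hs : 1 + D1 + D2 - D3 = 0)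
    (hsq : 1 + D1 ^ 2 + D2 ^ 2 + D3 ^ 2 ≤ n)
    (hp : n * (D1 * D2 * D3 + D2 * D3 + D1 * D3 - D1 * D2) = 32 * (D1 * D2 * D3)) :
    n = 12 := by
  have e : D3 = 1 + D1 + D2 := by linarith
  subst e
  have hP : 0 < D1 * D2 * (1 + D1 + D2) :=
    mul_pos (mul_pos (by linarith) (by linarith)) (by linarith)
  have hX : D1 * D2 * (1 + D1 + D2) <
      D1 * D2 * (1 + D1 + D2) + D2 * (1 + D1 + D2) + D1 * (1 + D1 + D2) - D1 * D2 := by
    nlinarith [mul_pos (by linarith : (0:ℤ) < D1) (by linarith : (0:ℤ) < D2)]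
  have hn : n < 32 := by
    by_contra hcon
    push Not at hcon
    have := mul_le_mul_of_nonneg_right hcon (le_of_lt (hP.trans hX))
    linarith
  have hD1 : D1 ≤ 5 := by nlinarith
  have hD2 : D2 ≤ 5 := by nlinarith
  have hD3 : D1 + D2 ≤ 4 := by nlinarith
  interval_cases D1 <;> interval_cases D2 <;> norm_num at hp hsq ⊢ <;> omega

/-- two negative signs (second and third), odd degrees -/
theorem arith_B2 (n D1 D2 D3 : ℤ) (h1 : 1 ≤ D1) (h2 : 1 ≤ D2) (h3 : 1 ≤ D3)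
    (ho2 : Odd D2) (ho3 : Odd D3)
    (hs : 1 + D1 - D2 - D3 = 0)
    (hsq : 1 + D1 ^ 2 + D2 ^ 2 + D3 ^ 2 ≤ n)
    (hp : n * (D1 * D2 * D3 + D2 * D3 - D1 * D3 - D1 * D2) = 32 * (D1 * D2 * D3)) :
    n = 60 := by
  have e : D1 = D2 + D3 - 1 := by linarith
  subst e
  have hP : 0 < (D2 + D3 - 1) * D2 * D3 :=
    mul_pos (mul_pos (by linarith) (by linarith)) (by linarith)
  have h2' : D2 ≠ 1 := by
    rintro rfl
    have : n * 0 = 32 * ((1 + D3 - 1) * 1 * D3) := by rw [← hp]; ring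
    nlinarith
  have h3' : D3 ≠ 1 := by
    rintro rfl
    have : n * 0 = 32 * ((D2 + 1 - 1) * D2 * 1) := by rw [← hp]; ring
    nlinarith
  obtain ⟨a, rfl⟩ := ho2
  obtain ⟨b, rfl⟩ := ho3
  have ha : 1 ≤ a := by omega
  have hb : 1 ≤ b := by omega
  have key : 8 * ((2 * a + 1 + (2 * b + 1) - 1) * (2 * a + 1) * (2 * b + 1)) ≤
      15 * ((2 * a + 1 + (2 * b + 1) - 1) * (2 * a + 1) * (2 * b + 1) + (2 * a + 1) * (2 * b + 1)
        - (2 * a + 1 + (2 * b + 1) - 1) * (2 * b + 1)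
        - (2 * a + 1 + (2 * b + 1) - 1) * (2 * a + 1)) := by
    nlinarith [mul_nonneg (by linarith : (0:ℤ) ≤ a - 1) (by linarith : (0:ℤ) ≤ b - 1),
      mul_nonneg (by linarith : (0:ℤ) ≤ a + b) (mul_nonneg (by linarith : (0:ℤ) ≤ a - 1) (by linarith : (0:ℤ) ≤ b - 1)),
      mul_nonneg (by linarith : (0:ℤ) ≤ a + b - 2) (by linarith : (0:ℤ) ≤ a + b)]
  have hXpos : 0 < (2 * a + 1 + (2 * b + 1) - 1) * (2 * a + 1) * (2 * b + 1) + (2 * a + 1) * (2 * b + 1)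
        - (2 * a + 1 + (2 * b + 1) - 1) * (2 * b + 1)
        - (2 * a + 1 + (2 * b + 1) - 1) * (2 * a + 1) := by linarith
  have hn : n ≤ 60 := by
    by_contra hcon
    push Not at hcon
    have := mul_lt_mul_of_pos_right hcon hXpos
    linarith
  have hab : a + b ≤ 3 := by nlinarith
  have ha1 : a ≤ 2 := by omega
  have hb1 : b ≤ 2 := by omega
  interval_cases a <;> interval_cases b <;> (try norm_num at hp hsq hab ⊢) <;> (try omega)

theorem arith_B0 (n e1 e2 e3 D1 D2 D3 : ℤ) (he1 : e1 = 1 ∨ e1 = -1) (he2 : e2 = 1 ∨ e2 = -1)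
    (he3 : e3 = 1 ∨ e3 = -1) (h1 : 1 ≤ D1) (h2 : 1 ≤ D2) (h3 : 1 ≤ D3)
    (ho1 : Odd D1) (ho2 : Odd D2) (ho3 : Odd D3)
    (hs : 1 + e1 * D1 + e2 * D2 + e3 * D3 = 0)
    (hsq : 1 + D1 ^ 2 + D2 ^ 2 + D3 ^ 2 ≤ n)
    (hp : n * (D1 * D2 * D3 + e1 * (D2 * D3) + e2 * (D1 * D3) + e3 * (D1 * D2))
      = 32 * (D1 * D2 * D3)) :
    n = 12 ∨ n = 60 := by
  rcases he1 with rfl | rfl <;> rcases he2 with rfl | rfl <;> rcases he3 with rfl | rfl
  · exfalso; linarith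
  · left; exact arith_B1 n D1 D2 D3 h1 h2 h3 (by linarith) (by linarith) (by rw [← hp]; ring)
  · left; exact arith_B1 n D1 D3 D2 h1 h3 h2 (by linarith) (by linarith)
      (by rw [show D1 * D3 * D2 = D1 * D2 * D3 by ring, ← hp]; ring)
  · right; exact arith_B2 n D1 D2 D3 h1 h2 h3 ho2 ho3 (by linarith) (by linarith)
      (by rw [← hp]; ring)
  · left; exact arith_B1 n D2 D3 D1 h2 h3 h1 (by linarith) (by linarith)
      (by rw [show D2 * D3 * D1 = D1 * D2 * D3 by ring, ← hp]; ring)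
  · right; exact arith_B2 n D2 D1 D3 h2 h1 h3 ho1 ho3 (by linarith) (by linarith)
      (by rw [show D2 * D1 * D3 = D1 * D2 * D3 by ring, ← hp]; ring)
  · right; exact arith_B2 n D3 D1 D2 h3 h1 h2 ho1 ho2 (by linarith) (by linarith)
      (by rw [show D3 * D1 * D2 = D1 * D2 * D3 by ring, ← hp]; ring)
  · exfalso; linarith

end Arith

section Invol

variable {G : Type*} [Group G] [Finite G]

/-- Character values at an element of square one. -/
theorem char_invol {V : Type*} [AddCommGroup V] [Module ℂ V] [FiniteDimensional ℂ V]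
    (ρ : Representation ℂ G V) (g : G) (hg : g * g = 1) :
    ∃ p q : ℕ, ρ.character g = (p : ℂ) - (q : ℂ) ∧ ρ.character 1 = (p : ℂ) + (q : ℂ) := by
  classical
  have hf : (ρ g) ^ 2 = 1 := by rw [← map_pow, pow_two, hg, map_one]
  obtain ⟨ι, hι, hd, v, μ, h1, h2⟩ :=
    Cfsg.Agent.Lib.Helper4.exists_eigenbasis (ρ g) 2 (by norm_num) hf
  have hμ : ∀ i, μ i = 1 ∨ μ i = -1 := by
    intro i
    have := h2 i
    have h3 : (μ i - 1) * (μ i + 1) = 0 := by ring_nf; rw [this]; ring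
    rcases mul_eq_zero.mp h3 with h | h
    · left; exact sub_eq_zero.mp h
    · right; exact eq_neg_of_add_eq_zero_left h
  refine ⟨(Finset.univ.filter fun i => μ i = 1).card,
    (Finset.univ.filter fun i => ¬ μ i = 1).card, ?_, ?_⟩
  · rw [Representation.character, Cfsg.Agent.Lib.Helper4.trace_eq_sum_of_eigenbasis v (ρ g) μ h1]
    rw [← Finset.sum_filter_add_sum_filter_not Finset.univ (fun i => μ i = 1)]
    have e1 : ∑ i ∈ Finset.univ.filter (fun i => μ i = 1), μ i =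
        ((Finset.univ.filter fun i => μ i = 1).card : ℂ) := by
      rw [Finset.sum_congr rfl (g := fun _ => (1 : ℂ))]
      · simp
      · intro i hi
        exact (Finset.mem_filter.mp hi).2
    have e2 : ∑ i ∈ Finset.univ.filter (fun i => ¬ μ i = 1), μ i =
        -((Finset.univ.filter fun i => ¬ μ i = 1).card : ℂ) := by
      rw [Finset.sum_congr rfl (g := fun _ => (-1 : ℂ))]
      · simp
      · intro i hi
        rcases hμ i with h | h
        · exact absurd h (Finset.mem_filter.mp hi).2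
        · exact h
    rw [e1, e2]
    ring
  · rw [Representation.char_one, Module.finrank_eq_card_basis v]
    rw [← Nat.cast_add, Finset.card_filter_add_card_filter_not]
    simp

theorem irr_invol (χ : IrrCharacter G) (g : G) (hg : g * g = 1) :
    ∃ p q : ℕ, (χ : G → ℂ) g = (p : ℂ) - (q : ℂ) ∧ (χ : G → ℂ) 1 = (p : ℂ) + (q : ℂ) := by
  obtain ⟨n, ρ, hρ, hχ⟩ := χ.2
  rw [← hχ]
  exact char_invol ρ g hg

/-- The trivial irreducible character. -/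
noncomputable def trivIrr (G : Type*) [Group G] : IrrCharacter G :=
  ⟨fun g => (((1 : G →* ℂˣ) g : ℂˣ) : ℂ), Cfsg.Agent.Lib.Helper4.isIrrCharacter_lin 1⟩

theorem trivIrr_apply (g : G) : (trivIrr G : G → ℂ) g = 1 := by
  simp [trivIrr]

end Invol

section T4

variable {G : Type*} [Group G] [Fintype G] [Fintype (IrrCharacter G)]

/-- The irreducible characters not vanishing at an involution with centralizer of order 4:
the trivial one and three more, each with value `±1`. -/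
theorem exists_T4 (x : G) (hx : x * x = 1)
    (hC : Nat.card (Subgroup.centralizer ({x} : Set G)) = 4) :
    ∃ (ψ1 ψ2 ψ3 : IrrCharacter G) (e1 e2 e3 : ℤ),
      (e1 = 1 ∨ e1 = -1) ∧ (e2 = 1 ∨ e2 = -1) ∧ (e3 = 1 ∨ e3 = -1) ∧
      (ψ1 : G → ℂ) x = (e1 : ℂ) ∧ (ψ2 : G → ℂ) x = (e2 : ℂ) ∧ (ψ3 : G → ℂ) x = (e3 : ℂ) ∧
      (ψ1 ≠ trivIrr G ∧ ψ2 ≠ trivIrr G ∧ ψ3 ≠ trivIrr G ∧ ψ1 ≠ ψ2 ∧ ψ1 ≠ ψ3 ∧ ψ2 ≠ ψ3) ∧
      ∀ F : IrrCharacter G → ℂ, (∀ χ : IrrCharacter G, (χ : G → ℂ) x = 0 → F χ = 0) →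
        ∑ χ : IrrCharacter G, F χ = F (trivIrr G) + F ψ1 + F ψ2 + F ψ3 := by
  classical
  have hex : ∀ χ : IrrCharacter G, ∃ n : ℤ, (χ : G → ℂ) x = (n : ℂ) := by
    intro χ
    obtain ⟨p, q, h1, -⟩ := irr_invol χ x hx
    exact ⟨(p : ℤ) - (q : ℤ), by rw [h1]; push_cast; ring⟩
  choose n hn using hex
  have hsum : ∑ χ : IrrCharacter G, (n χ) ^ 2 = 4 := by
    have h := Cfsg.Agent.Lib.Helper4.col_orth x x
    rw [if_pos (IsConj.refl x), hC] at h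
    have h2 : ((∑ χ : IrrCharacter G, (n χ) ^ 2 : ℤ) : ℂ) = ((4 : ℤ) : ℂ) := by
      have h4 : ((4 : ℤ) : ℂ) = ((4 : ℕ) : ℂ) := by norm_num
      rw [h4, ← h]
      push_cast
      refine Finset.sum_congr rfl fun χ _ => ?_
      rw [hn χ, map_intCast]
      ring
    exact_mod_cast h2
  have htriv : n (trivIrr G) = 1 := by
    have := hn (trivIrr G)
    rw [trivIrr_apply] at this
    exact_mod_cast this.symm
  have hle : ∀ χ : IrrCharacter G, (n χ) ^ 2 ≤ 1 := by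
    intro χ
    by_cases hχ : χ = trivIrr G
    · rw [hχ, htriv]; norm_num
    · have h1 : ∑ ψ ∈ ({trivIrr G, χ} : Finset (IrrCharacter G)), (n ψ) ^ 2 ≤
          ∑ ψ : IrrCharacter G, (n ψ) ^ 2 :=
        Finset.sum_le_sum_of_subset_of_nonneg (Finset.subset_univ _)
          (fun i _ _ => sq_nonneg _)
      rw [Finset.sum_pair (Ne.symm hχ), hsum, htriv] at h1
      by_contra hcon
      push Not at hcon
      have h3 : (n χ) ^ 2 ≤ 3 := by linarith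
      have h4 : n χ ≤ 1 := by nlinarith
      have h5 : -1 ≤ n χ := by nlinarith
      have h6 : (n χ) ^ 2 ≤ 1 := by nlinarith
      linarith
  have hval : ∀ χ : IrrCharacter G, n χ ≠ 0 → (n χ = 1 ∨ n χ = -1) := by
    intro χ h0
    have h1 := hle χ
    have h4 : n χ ≤ 1 := by nlinarith
    have h5 : -1 ≤ n χ := by nlinarith
    omega
  set T : Finset (IrrCharacter G) := Finset.univ.filter (fun χ => n χ ≠ 0) with hT
  have hTcard : T.card = 4 := by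
    have h1 : ∑ χ : IrrCharacter G, (n χ) ^ 2 = ∑ χ ∈ T, (1 : ℤ) := by
      rw [hT, Finset.sum_filter]
      refine Finset.sum_congr rfl fun χ _ => ?_
      by_cases h0 : n χ = 0
      · simp [h0]
      · rw [if_pos h0]
        rcases hval χ h0 with h | h <;> rw [h] <;> norm_num
    rw [hsum] at h1
    simp at h1
    exact_mod_cast h1.symm
  have htT : trivIrr G ∈ T := by
    rw [hT, Finset.mem_filter]
    exact ⟨Finset.mem_univ _, by rw [htriv]; norm_num⟩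
  have hcard3 : (T.erase (trivIrr G)).card = 3 := by
    rw [Finset.card_erase_of_mem htT, hTcard]
  obtain ⟨ψ1, ψ2, ψ3, h12, h13, h23, hE⟩ := Finset.card_eq_three.mp hcard3
  have hmem : ∀ ψ, ψ ∈ T.erase (trivIrr G) → n ψ ≠ 0 := by
    intro ψ hψ
    have := Finset.mem_of_mem_erase hψ
    rw [hT, Finset.mem_filter] at this
    exact this.2
  have hm1 : ψ1 ∈ T.erase (trivIrr G) := by rw [hE]; simp
  have hm2 : ψ2 ∈ T.erase (trivIrr G) := by rw [hE]; simp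
  have hm3 : ψ3 ∈ T.erase (trivIrr G) := by rw [hE]; simp
  refine ⟨ψ1, ψ2, ψ3, n ψ1, n ψ2, n ψ3, hval _ (hmem _ hm1), hval _ (hmem _ hm2),
    hval _ (hmem _ hm3), hn ψ1, hn ψ2, hn ψ3,
    ⟨Finset.ne_of_mem_erase hm1, Finset.ne_of_mem_erase hm2, Finset.ne_of_mem_erase hm3,
      h12, h13, h23⟩, ?_⟩
  intro F hF
  have h1 : ∑ χ : IrrCharacter G, F χ = ∑ χ ∈ T, F χ := by
    symm
    apply Finset.sum_subset (Finset.subset_univ _)
    intro χ _ hχ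
    apply hF
    rw [hn χ]
    rw [hT, Finset.mem_filter] at hχ
    push Not at hχ
    rw [hχ (Finset.mem_univ _)]
    simp
  rw [h1, ← Finset.insert_erase htT, Finset.sum_insert (Finset.notMem_erase _ _), hE]
  rw [Finset.sum_insert (by simp [h12, h13]), Finset.sum_insert (by simp [h23]),
    Finset.sum_singleton]
  ring

open scoped Classical in
/-- The class-constant double sum as a cardinality. -/
theorem classSum_eq_card (x t : G) :
    ∑ g : G, ∑ h : G, (if IsConj x g then (1 : ℂ) else 0)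
        * (if IsConj x h then (1 : ℂ) else 0) * (if g * h * t = 1 then (1 : ℂ) else 0)
      = ((Finset.univ.filter (fun g : G => IsConj x g ∧ IsConj x (g⁻¹ * t⁻¹))).card : ℂ) := by
  have h1 : ∀ g : G, ∑ h : G, (if IsConj x g then (1 : ℂ) else 0)
        * (if IsConj x h then (1 : ℂ) else 0) * (if g * h * t = 1 then (1 : ℂ) else 0)
      = if IsConj x g ∧ IsConj x (g⁻¹ * t⁻¹) then (1 : ℂ) else 0 := by
    intro g
    rw [Finset.sum_eq_single (g⁻¹ * t⁻¹)]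
    · have : g * (g⁻¹ * t⁻¹) * t = 1 := by group
      rw [if_pos this]
      by_cases h1 : IsConj x g
      · by_cases h2 : IsConj x (g⁻¹ * t⁻¹)
        · rw [if_pos h1, if_pos h2,
            if_pos (show IsConj x g ∧ IsConj x (g⁻¹ * t⁻¹) from ⟨h1, h2⟩)]; norm_num
        · rw [if_pos h1, if_neg h2,
            if_neg (show ¬ (IsConj x g ∧ IsConj x (g⁻¹ * t⁻¹)) from fun h => h2 h.2)]; norm_num
      · rw [if_neg h1,
          if_neg (show ¬ (IsConj x g ∧ IsConj x (g⁻¹ * t⁻¹)) from fun h => h1 h.1)]; norm_num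
    · intro h _ hne
      have : g * h * t ≠ 1 := by
        intro h1
        apply hne
        have : h = g⁻¹ * (g * h * t) * t⁻¹ := by group
        rw [this, h1]
        group
      rw [if_neg this, mul_zero]
    · intro h
      exact absurd (Finset.mem_univ _) h
  simp_rw [h1]
  rw [Finset.sum_boole]

open scoped Classical in
/-- Full character data at an involution `x` with centralizer of order 4. -/
theorem exists_T4_data (x : G) (hx1 : x ≠ 1) (hx : x * x = 1)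
    (hC : Nat.card (Subgroup.centralizer ({x} : Set G)) = 4) :
    ∃ (ψ1 ψ2 ψ3 : IrrCharacter G) (e1 e2 e3 : ℤ) (d1 d2 d3 : ℕ),
      (e1 = 1 ∨ e1 = -1) ∧ (e2 = 1 ∨ e2 = -1) ∧ (e3 = 1 ∨ e3 = -1) ∧
      (ψ1 : G → ℂ) x = (e1 : ℂ) ∧ (ψ2 : G → ℂ) x = (e2 : ℂ) ∧ (ψ3 : G → ℂ) x = (e3 : ℂ) ∧
      (ψ1 : G → ℂ) 1 = (d1 : ℂ) ∧ (ψ2 : G → ℂ) 1 = (d2 : ℂ) ∧ (ψ3 : G → ℂ) 1 = (d3 : ℂ) ∧
      Odd d1 ∧ Odd d2 ∧ Odd d3 ∧
      ((1 : ℤ) + e1 * d1 + e2 * d2 + e3 * d3 = 0) ∧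
      (1 + (d1 : ℤ) ^ 2 + (d2 : ℤ) ^ 2 + (d3 : ℤ) ^ 2 ≤ (Nat.card G : ℤ)) ∧
      (∀ g : G, ¬ IsConj x g →
        (1 : ℂ) + e1 * conj ((ψ1 : G → ℂ) g) + e2 * conj ((ψ2 : G → ℂ) g)
          + e3 * conj ((ψ3 : G → ℂ) g) = 0) ∧
      (∀ t : G, (16 : ℂ) *
          ((Finset.univ.filter (fun g : G => IsConj x g ∧ IsConj x (g⁻¹ * t⁻¹))).card : ℂ)
        = (Nat.card G : ℂ) * (1 + (ψ1 : G → ℂ) t / d1 + (ψ2 : G → ℂ) t / d2
          + (ψ3 : G → ℂ) t / d3)) := by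
  obtain ⟨ψ1, ψ2, ψ3, e1, e2, e3, he1, he2, he3, hψ1, hψ2, hψ3,
    ⟨hn1, hn2, hn3, h12, h13, h23⟩, hF⟩ := exists_T4 x hx hC
  have hdeg : ∀ (ψ : IrrCharacter G) (e : ℤ), (e = 1 ∨ e = -1) → (ψ : G → ℂ) x = (e : ℂ) →
      ∃ d : ℕ, (ψ : G → ℂ) 1 = (d : ℂ) ∧ Odd d := by
    intro ψ e he hψ
    obtain ⟨p, q, h1, h2⟩ := irr_invol ψ x hx
    refine ⟨p + q, by rw [h2]; push_cast; ring, ?_⟩
    rw [hψ] at h1
    have h3 : (e : ℤ) = (p : ℤ) - (q : ℤ) := by exact_mod_cast h1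
    rcases he with he | he
    · exact ⟨q, by omega⟩
    · exact ⟨p, by omega⟩
  obtain ⟨d1, hd1, ho1⟩ := hdeg ψ1 e1 he1 hψ1
  obtain ⟨d2, hd2, ho2⟩ := hdeg ψ2 e2 he2 hψ2
  obtain ⟨d3, hd3, ho3⟩ := hdeg ψ3 e3 he3 hψ3
  have hcol : ∀ g : G, ¬ IsConj x g →
        (1 : ℂ) + e1 * conj ((ψ1 : G → ℂ) g) + e2 * conj ((ψ2 : G → ℂ) g)
          + e3 * conj ((ψ3 : G → ℂ) g) = 0 := by
    intro g hg
    have h := Cfsg.Agent.Lib.Helper4.col_orth x g
    rw [if_neg hg, hF (fun χ => (χ : G → ℂ) x * conj ((χ : G → ℂ) g))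
      (fun χ h0 => by rw [h0, zero_mul])] at h
    rw [trivIrr_apply, trivIrr_apply, hψ1, hψ2, hψ3] at h
    rw [← h]
    simp
  have hd1' : (d1 : ℂ) ≠ 0 := by
    rw [← hd1]; exact Cfsg.Agent.Lib.Helper4.irr_one_ne_zero ψ1
  have hd2' : (d2 : ℂ) ≠ 0 := by
    rw [← hd2]; exact Cfsg.Agent.Lib.Helper4.irr_one_ne_zero ψ2
  have hd3' : (d3 : ℂ) ≠ 0 := by
    rw [← hd3]; exact Cfsg.Agent.Lib.Helper4.irr_one_ne_zero ψ3
  refine ⟨ψ1, ψ2, ψ3, e1, e2, e3, d1, d2, d3, he1, he2, he3, hψ1, hψ2, hψ3, hd1, hd2, hd3,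
    ho1, ho2, ho3, ?_, ?_, hcol, ?_⟩
  · have h := hcol 1 (fun h => hx1 (isConj_one_left.mp h))
    rw [hd1, hd2, hd3] at h
    simp only [map_natCast] at h
    exact_mod_cast h
  · have h := Cfsg.Agent.Lib.Helper4.sum_sq_irr (G := G)
    have hex : ∀ χ : IrrCharacter G, ∃ n : ℕ, (χ : G → ℂ) 1 = (n : ℂ) := fun χ => by
      obtain ⟨n, -, hn⟩ := Cfsg.Agent.Lib.Helper4.irr_one_nat χ
      exact ⟨n, hn⟩
    choose dn hdn using hex
    have h0 : ∑ χ : IrrCharacter G, (dn χ) ^ 2 = Nat.card G := by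
      have : ((∑ χ : IrrCharacter G, (dn χ) ^ 2 : ℕ) : ℂ) = (Nat.card G : ℂ) := by
        rw [← h]
        push_cast
        exact Finset.sum_congr rfl fun χ _ => by rw [hdn χ]
      exact_mod_cast this
    have h1 : ∑ ψ ∈ ({trivIrr G, ψ1, ψ2, ψ3} : Finset (IrrCharacter G)), (dn ψ) ^ 2 ≤
          ∑ ψ : IrrCharacter G, (dn ψ) ^ 2 :=
      Finset.sum_le_sum_of_subset (Finset.subset_univ _)
    rw [h0, Finset.sum_insert (by simp [Ne.symm hn1, Ne.symm hn2, Ne.symm hn3]),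
      Finset.sum_insert (by simp [h12, h13]), Finset.sum_insert (by simp [h23]),
      Finset.sum_singleton] at h1
    have e0 : dn (trivIrr G) = 1 := by
      have := hdn (trivIrr G)
      rw [trivIrr_apply] at this
      exact_mod_cast this.symm
    have e1 : dn ψ1 = d1 := by
      have := hdn ψ1
      rw [hd1] at this
      exact_mod_cast this.symm
    have e2 : dn ψ2 = d2 := by
      have := hdn ψ2
      rw [hd2] at this
      exact_mod_cast this.symm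
    have e3 : dn ψ3 = d3 := by
      have := hdn ψ3
      rw [hd3] at this
      exact_mod_cast this.symm
    rw [e0, e1, e2, e3] at h1
    have : 1 + d1 ^ 2 + d2 ^ 2 + d3 ^ 2 ≤ Nat.card G := by linarith
    exact_mod_cast this
  · intro t
    have h := Cfsg.Agent.Lib.Helper82.class_constant x x t
    rw [classSum_eq_card] at h
    rw [hF _ (fun χ h0 => by rw [h0]; simp)] at h
    rw [trivIrr_apply, trivIrr_apply, trivIrr_apply, hψ1, hψ2, hψ3, hd1, hd2, hd3] at h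
    have hidx : ((Subgroup.centralizer ({x} : Set G)).index : ℂ) * 4 = (Nat.card G : ℂ) := by
      have := Subgroup.card_mul_index (Subgroup.centralizer ({x} : Set G))
      rw [hC] at this
      rw [← this]
      push_cast
      ring
    have hG0 : (Nat.card G : ℂ) ≠ 0 := Cfsg.Agent.Lib.Helper4.card_ne_zero_complex
    have he1' : (e1 : ℂ) * (e1 : ℂ) = 1 := by
      rcases he1 with h | h <;> rw [h] <;> norm_num
    have he2' : (e2 : ℂ) * (e2 : ℂ) = 1 := by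
      rcases he2 with h | h <;> rw [h] <;> norm_num
    have he3' : (e3 : ℂ) * (e3 : ℂ) = 1 := by
      rcases he3 with h | h <;> rw [h] <;> norm_num
    set I : ℂ := ((Subgroup.centralizer ({x} : Set G)).index : ℂ) with hI
    have h2 : (Nat.card G : ℂ) * ((Finset.univ.filter
        (fun g : G => IsConj x g ∧ IsConj x (g⁻¹ * t⁻¹))).card : ℂ)
        = I * I * (1 + (ψ1 : G → ℂ) t / d1 + (ψ2 : G → ℂ) t / d2 + (ψ3 : G → ℂ) t / d3) := by
      rw [h]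
      have : I * (e1 : ℂ) * (I * (e1 : ℂ)) = I * I * ((e1 : ℂ) * (e1 : ℂ)) := by ring
      field_simp
      linear_combination (I * I * (ψ1 : G → ℂ) t * d2 * d3) * he1' +
        (I * I * (ψ2 : G → ℂ) t * d1 * d3) * he2' + (I * I * (ψ3 : G → ℂ) t * d1 * d2) * he3'
    have h3 : (Nat.card G : ℂ) * (16 * ((Finset.univ.filter
        (fun g : G => IsConj x g ∧ IsConj x (g⁻¹ * t⁻¹))).card : ℂ))
        = (Nat.card G : ℂ) * ((Nat.card G : ℂ) * (1 + (ψ1 : G → ℂ) t / d1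
          + (ψ2 : G → ℂ) t / d2 + (ψ3 : G → ℂ) t / d3)) := by
      rw [← hidx]
      rw [← hidx] at h2
      linear_combination 16 * h2
    exact mul_left_cancel₀ hG0 h3

open scoped Classical in
/-- Case of three conjugate involutions: the order is 12 or 60. -/
theorem card_of_all_conj (x : G) (hx1 : x ≠ 1) (hx : x * x = 1)
    (hC : Nat.card (Subgroup.centralizer ({x} : Set G)) = 4)
    (hcnt : (Finset.univ.filter (fun g : G => IsConj x g ∧ IsConj x (g⁻¹ * x⁻¹))).card = 2) :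
    Nat.card G = 12 ∨ Nat.card G = 60 := by
  obtain ⟨ψ1, ψ2, ψ3, e1, e2, e3, d1, d2, d3, he1, he2, he3, hψ1, hψ2, hψ3, hd1, hd2, hd3,
    ho1, ho2, ho3, hs, hsq, hcol, hE⟩ := exists_T4_data x hx1 hx hC
  have h := hE x
  rw [hcnt, hψ1, hψ2, hψ3] at h
  have hd1' : (d1 : ℂ) ≠ 0 := by
    rw [← hd1]; exact Cfsg.Agent.Lib.Helper4.irr_one_ne_zero ψ1
  have hd2' : (d2 : ℂ) ≠ 0 := by
    rw [← hd2]; exact Cfsg.Agent.Lib.Helper4.irr_one_ne_zero ψ2
  have hd3' : (d3 : ℂ) ≠ 0 := by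
    rw [← hd3]; exact Cfsg.Agent.Lib.Helper4.irr_one_ne_zero ψ3
  have hp : (Nat.card G : ℤ) * ((d1 : ℤ) * d2 * d3 + e1 * (d2 * d3) + e2 * (d1 * d3)
      + e3 * (d1 * d2)) = 32 * ((d1 : ℤ) * d2 * d3) := by
    have h2 : (Nat.card G : ℂ) * ((d1 : ℂ) * d2 * d3 + e1 * (d2 * d3) + e2 * (d1 * d3)
        + e3 * (d1 * d2)) = ((Nat.card G : ℂ) * (1 + (e1 : ℂ) / d1 + (e2 : ℂ) / d2
          + (e3 : ℂ) / d3)) * ((d1 : ℂ) * d2 * d3) := by
      field_simp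
    have h3 : (((Nat.card G : ℤ) * ((d1 : ℤ) * d2 * d3 + e1 * (d2 * d3) + e2 * (d1 * d3)
      + e3 * (d1 * d2)) : ℤ) : ℂ) = ((32 * ((d1 : ℤ) * d2 * d3) : ℤ) : ℂ) := by
      push_cast
      rw [h2, ← h]
      push_cast
      ring
    exact_mod_cast h3
  have hodd : ∀ d : ℕ, Odd d → (1 : ℤ) ≤ (d : ℤ) ∧ Odd (d : ℤ) := by
    intro d hd
    obtain ⟨k, hk⟩ := hd
    refine ⟨by omega, ⟨(k : ℤ), by rw [hk]; push_cast; ring⟩⟩
  have := arith_B0 (Nat.card G) e1 e2 e3 d1 d2 d3 he1 he2 he3 (hodd d1 ho1).1 (hodd d2 ho2).1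
    (hodd d3 ho3).1 (hodd d1 ho1).2 (hodd d2 ho2).2 (hodd d3 ho3).2 hs hsq hp
  exact_mod_cast this

theorem caseII_inner (x z : G) (hx : x * x = 1) (hz : z * z = 1) (hxz : IsConj x (x * z))
    (lam χ χ' : IrrCharacter G) (d : ℕ) (e : ℤ) (he : e = 1 ∨ e = -1)
    (hl1 : (lam : G → ℂ) 1 = 1) (hlx : (lam : G → ℂ) x = -1)
    (hχ1 : (χ : G → ℂ) 1 = d) (hχ'1 : (χ' : G → ℂ) 1 = d)
    (hcol : (1 : ℂ) + (-1) * conj ((lam : G → ℂ) z) + e * conj ((χ : G → ℂ) z)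
      + (-e) * conj ((χ' : G → ℂ) z) = 0)
    (c : ℕ) (hE : (16 : ℂ) * c = (Nat.card G : ℂ) * (1 + (lam : G → ℂ) z / 1
      + (χ : G → ℂ) z / d + (χ' : G → ℂ) z / d))
    (hc : 0 < c) (M : ℕ) (hM : 4 * c ≤ M) :
    ∃ k : ℕ, 0 < k ∧ (χ : G → ℂ) z = 2 * (k : ℂ) - d ∧ Nat.card G * k ≤ M * d := by
  have hlz : (lam : G → ℂ) z = 1 := by
    have h1 := Cfsg.Agent.Lib.Helper4.irr_mul_of_one lam hl1 x (x * z)
    rw [← mul_assoc, hx, one_mul] at h1
    rw [h1, ← Cfsg.Agent.Lib.Helper4.irr_eq_of_isConj lam hxz, hlx]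
    norm_num
  have he0 : (e : ℂ) ≠ 0 := by
    rcases he with h | h <;> rw [h] <;> norm_num
  have heq : (χ : G → ℂ) z = (χ' : G → ℂ) z := by
    rw [hlz] at hcol
    have h1 : (e : ℂ) * (conj ((χ : G → ℂ) z) - conj ((χ' : G → ℂ) z)) = 0 := by
      simp only [map_one] at hcol
      linear_combination hcol
    have h2 := (mul_eq_zero.mp h1).resolve_left he0
    exact (starRingEnd ℂ).injective (sub_eq_zero.mp h2)
  obtain ⟨p, q, h1, h2⟩ := irr_invol χ z hz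
  have hd : d = p + q := by
    rw [hχ1] at h2
    exact_mod_cast h2
  have hd0 : (d : ℂ) ≠ 0 := by
    rw [← hχ1]; exact Cfsg.Agent.Lib.Helper4.irr_one_ne_zero χ
  have hd0' : d ≠ 0 := by
    intro h0
    apply hd0
    rw [h0]
    simp
  rw [hlz, ← heq, h1] at hE
  have h3 : (4 : ℂ) * c * d = (Nat.card G : ℂ) * p := by
    have h4 : (16 : ℂ) * c * d = (Nat.card G : ℂ) * (1 + 1 / 1 + ((p : ℂ) - q) / d
        + ((p : ℂ) - q) / d) * d := by rw [hE]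
    have h5 : (Nat.card G : ℂ) * (1 + 1 / 1 + ((p : ℂ) - q) / d + ((p : ℂ) - q) / d) * d
        = (Nat.card G : ℂ) * (2 * d + 2 * ((p : ℂ) - q)) := by
      field_simp
      ring
    rw [h5, hd] at h4
    rw [hd]
    push_cast at h4 ⊢
    linear_combination h4 / 4
  have h6 : 4 * c * d = Nat.card G * p := by exact_mod_cast h3
  have hp0 : 0 < p := by
    rcases Nat.eq_zero_or_pos p with h0 | h0
    · rw [h0, mul_zero] at h6
      have : 0 < 4 * c * d := by positivity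
      omega
    · exact h0
  refine ⟨p, hp0, by rw [h1, hd]; push_cast; ring, ?_⟩
  calc Nat.card G * p = 4 * c * d := h6.symm
    _ ≤ M * d := Nat.mul_le_mul_right d hM

open scoped Classical in
/-- Case `x ~ xz`, `x ≁ z`: an irreducible character with controlled value at `z`. -/
theorem caseII_char (x z : G) (hx1 : x ≠ 1) (hx : x * x = 1)
    (hC : Nat.card (Subgroup.centralizer ({x} : Set G)) = 4)
    (hz : z * z = 1) (hxz : IsConj x (x * z)) (hnz : ¬ IsConj x z)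
    (hcnt0 : (Finset.univ.filter (fun g : G => IsConj x g ∧ IsConj x (g⁻¹ * x⁻¹))).card = 0)
    (M : ℕ)
    (hM : 4 * (Finset.univ.filter (fun g : G => IsConj x g ∧ IsConj x (g⁻¹ * z⁻¹))).card ≤ M) :
    ∃ (χ : IrrCharacter G) (k d : ℕ), 0 < k ∧ (χ : G → ℂ) 1 = d ∧
      (χ : G → ℂ) z = 2 * (k : ℂ) - d ∧ Nat.card G * k ≤ M * d := by
  obtain ⟨ψ1, ψ2, ψ3, e1, e2, e3, d1, d2, d3, he1, he2, he3, hψ1, hψ2, hψ3, hd1, hd2, hd3,
    ho1, ho2, ho3, hs, hsq, hcol, hE⟩ := exists_T4_data x hx1 hx hC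
  have h := hE x
  rw [hcnt0, hψ1, hψ2, hψ3] at h
  have hd1' : (d1 : ℂ) ≠ 0 := by
    rw [← hd1]; exact Cfsg.Agent.Lib.Helper4.irr_one_ne_zero ψ1
  have hd2' : (d2 : ℂ) ≠ 0 := by
    rw [← hd2]; exact Cfsg.Agent.Lib.Helper4.irr_one_ne_zero ψ2
  have hd3' : (d3 : ℂ) ≠ 0 := by
    rw [← hd3]; exact Cfsg.Agent.Lib.Helper4.irr_one_ne_zero ψ3
  have hG0 : (Nat.card G : ℂ) ≠ 0 := Cfsg.Agent.Lib.Helper4.card_ne_zero_complex
  have hp : ((d1 : ℤ) * d2 * d3 + e1 * (d2 * d3) + e2 * (d1 * d3) + e3 * (d1 * d2)) = 0 := by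
    have h2 : ((d1 : ℂ) * d2 * d3 + e1 * (d2 * d3) + e2 * (d1 * d3)
        + e3 * (d1 * d2)) = (1 + (e1 : ℂ) / d1 + (e2 : ℂ) / d2
          + (e3 : ℂ) / d3) * ((d1 : ℂ) * d2 * d3) := by
      field_simp
    have h0 : (1 + (e1 : ℂ) / d1 + (e2 : ℂ) / d2 + (e3 : ℂ) / d3) = 0 := by
      have : (Nat.card G : ℂ) * (1 + (e1 : ℂ) / d1 + (e2 : ℂ) / d2 + (e3 : ℂ) / d3) = 0 := by
        rw [← h]; simp
      exact (mul_eq_zero.mp this).resolve_left hG0
    have h3 : ((((d1 : ℤ) * d2 * d3 + e1 * (d2 * d3) + e2 * (d1 * d3)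
      + e3 * (d1 * d2)) : ℤ) : ℂ) = ((0 : ℤ) : ℂ) := by
      push_cast
      rw [h2, h0]
      ring
    exact_mod_cast h3
  have hpos : ∀ d : ℕ, Odd d → (1 : ℤ) ≤ (d : ℤ) := by
    intro d hd
    obtain ⟨k, hk⟩ := hd
    omega
  have hcz := hcol z hnz
  have hEz := hE z
  have hcpos : 0 < (Finset.univ.filter
      (fun g : G => IsConj x g ∧ IsConj x (g⁻¹ * z⁻¹))).card := by
    apply Finset.card_pos.mpr
    refine ⟨x, Finset.mem_filter.mpr ⟨Finset.mem_univ _, IsConj.refl x, ?_⟩⟩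
    rw [inv_eq_of_mul_eq_one_right hx, inv_eq_of_mul_eq_one_right hz]
    exact hxz
  rcases arith_A0 e1 e2 e3 d1 d2 d3 he1 he2 he3 (hpos d1 ho1) (hpos d2 ho2) (hpos d3 ho3) hs hp
    with ⟨h1, h2, h3, h4⟩ | ⟨h1, h2, h3, h4⟩ | ⟨h1, h2, h3, h4⟩
  · have hd1n : d1 = 1 := by exact_mod_cast h2
    have hd23 : d2 = d3 := by exact_mod_cast h3
    obtain ⟨k, hk1⟩ := caseII_inner x z hx hz hxz ψ1 ψ2 ψ3 d2 e2 he2
      (by rw [hd1, hd1n]; norm_num) (by rw [hψ1, h1]; norm_num) hd2 (by rw [hd3, hd23])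
      (by rw [h1, h4] at hcz; rw [h4]; push_cast at hcz ⊢; linear_combination hcz) _
      (by rw [hd1n, ← hd23] at hEz; rw [hEz]; push_cast; ring) hcpos M hM
    exact ⟨ψ2, k, d2, hk1.1, hd2, hk1.2⟩
  · have hd2n : d2 = 1 := by exact_mod_cast h2
    have hd13 : d1 = d3 := by exact_mod_cast h3
    obtain ⟨k, hk1⟩ := caseII_inner x z hx hz hxz ψ2 ψ1 ψ3 d1 e1 he1
      (by rw [hd2, hd2n]; norm_num) (by rw [hψ2, h1]; norm_num) hd1 (by rw [hd3, hd13])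
      (by rw [h1, h4] at hcz; rw [h4]; push_cast at hcz ⊢; linear_combination hcz) _
      (by rw [hd2n, ← hd13] at hEz; rw [hEz]; push_cast; ring) hcpos M hM
    exact ⟨ψ1, k, d1, hk1.1, hd1, hk1.2⟩
  · have hd3n : d3 = 1 := by exact_mod_cast h2
    have hd12 : d1 = d2 := by exact_mod_cast h3
    obtain ⟨k, hk1⟩ := caseII_inner x z hx hz hxz ψ3 ψ1 ψ2 d1 e1 he1
      (by rw [hd3, hd3n]; norm_num) (by rw [hψ3, h1]; norm_num) hd1 (by rw [hd2, hd12])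
      (by rw [h1, h4] at hcz; rw [h4]; push_cast at hcz ⊢; linear_combination hcz) _
      (by rw [hd3n, ← hd12] at hEz; rw [hEz]; push_cast; ring) hcpos M hM
    exact ⟨ψ1, k, d1, hk1.1, hd1, hk1.2⟩

end T4

end Cfsg.Agent.Lib.Helper62
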