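import Cfsg.Agent.Lib.Helper96.HyDefs

/-!
Project HY (S5992, helper96): piece INVOL (`invol_fix`): every involutory isometry fixes a
hyperbolic `m`-space (assembly from `hsum`, `hhp`).
-/

set_option autoImplicit false
set_option linter.unusedSectionVars false
set_option linter.unusedVariables false

namespace Cfsg.Agent.Lib.Helper62.Hy

open Module Polynomial Cfsg.Agent.Lib.Helper96.Sp Cfsg.Agent.Lib.Helper96.Hy
  Cfsg.Agent.Lib.Helper47

universe u

variable {F : Type u} [Field F] [Fintype F] {V : Type u} [AddCommGroup V] [Module F V]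
  [FiniteDimensional F V] {B : LinearMap.BilinForm F V}

theorem invol_fix (hS : B.IsSymm) (h2 : (2 : F) ≠ 0) (hN : ND B ⊤)
    (hq2 : ¬ 2 ∣ Fintype.card F) (T : Module.End F V) (hT : Isom B T) (hT2 : T ^ 2 = 1)
    (hodd : Odd (finrank F V)) (m : ℕ) (hme : Even m) (hm2 : 2 ≤ m)
    (hmn : m + 1 ≤ finrank F V)
    (hsum : ∀ A E : Submodule F V, ND B A → ND B E → Orth B A E → Odd (finrank F A) →
      finrank F A + finrank F E = finrank F V → ¬ (finrank F A = 1 ∧ m + 1 = finrank F V) →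
      ∃ X Y : Submodule F V, X ≤ A ∧ Y ≤ E ∧ Hyp B (X ⊔ Y) ∧ finrank F ↥(X ⊔ Y) = m)
    (hhp : ∀ E : Submodule F V, ND B E → 2 ≤ finrank F E →
      ∃ u ∈ E, B u u ≠ 0 ∧ Hyp B (B.orthogonal (Submodule.span F {u})) ∧
        finrank F ↥(B.orthogonal (Submodule.span F {u})) + 1 = finrank F V) :
    ∃ W : Submodule F V, finrank F W = m ∧ Hyp B W ∧ W.map T ≤ W := by
  have : Fact (Nat.Prime 2) := ⟨Nat.prime_two⟩
  have hr0 : ((2 : ℕ) : F) ≠ 0 := by
    rw [Nat.cast_ofNat]; exact h2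
  have hK : ND B (LinearMap.ker (T - 1)) :=
    Cfsg.Agent.Lib.Helper98.O72.nd_ker hS h2 hN T hT 2 hq2 hr0 hT2
  have hR : ND B (LinearMap.range (T - 1)) :=
    Cfsg.Agent.Lib.Helper98.O72.nd_range hS h2 hN T hT 2 hq2 hr0 hT2
  have hKR : Orth B (LinearMap.ker (T - 1)) (LinearMap.range (T - 1)) := orth_ker_range hT
  have hRK : Orth B (LinearMap.range (T - 1)) (LinearMap.ker (T - 1)) :=
    Cfsg.Agent.Lib.Helper98.O72.orth_symm hS h2 hKR
  obtain ⟨-, -, -, -, -, -, -, -, hdim⟩ :=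
    Cfsg.Agent.Lib.Helper96.BG.pow_one_setup T 2 hq2 hr0 hT2
  have hTK : ∀ x ∈ LinearMap.ker (T - 1), T x = x := by
    intro x hx
    rw [LinearMap.mem_ker, LinearMap.sub_apply, sub_eq_zero] at hx
    exact hx
  have hTT : ∀ x : V, T (T x) = x := by
    intro x
    have h1 := congrArg (fun S : Module.End F V => S x) hT2
    simpa [pow_two] using h1
  have hTR : ∀ y ∈ LinearMap.range (T - 1), T y = - y := by
    rintro _ ⟨x, rfl⟩
    rw [LinearMap.sub_apply, map_sub, hTT x]
    simp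
  have hinvK : ∀ X : Submodule F V, X ≤ LinearMap.ker (T - 1) → X.map T ≤ X := by
    rintro X hX _ ⟨x, hx, rfl⟩
    rw [hTK x (hX hx)]; exact hx
  have hinvR : ∀ Y : Submodule F V, Y ≤ LinearMap.range (T - 1) → Y.map T ≤ Y := by
    rintro Y hY _ ⟨y, hy, rfl⟩
    rw [hTR y (hY hy)]; exact Y.neg_mem hy
  have hinv : ∀ X Y : Submodule F V, X ≤ LinearMap.ker (T - 1) →
      Y ≤ LinearMap.range (T - 1) → (X ⊔ Y).map T ≤ X ⊔ Y := by
    intro X Y hX hY
    rw [Submodule.map_sup]
    exact sup_le_sup (hinvK X hX) (hinvR Y hY)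
  have hinv' : ∀ X Y : Submodule F V, X ≤ LinearMap.range (T - 1) →
      Y ≤ LinearMap.ker (T - 1) → (X ⊔ Y).map T ≤ X ⊔ Y := by
    intro X Y hX hY
    rw [Submodule.map_sup]
    exact sup_le_sup (hinvR X hX) (hinvK Y hY)
  have hspan : ∀ u : V, (T u = u ∨ T u = -u) →
      (Submodule.span F {u}).map T ≤ Submodule.span F {u} := by
    intro u hu
    rw [Submodule.map_span, Set.image_singleton]
    apply Submodule.span_le.mpr
    intro z hz
    rw [Set.mem_singleton_iff] at hz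
    subst hz
    rcases hu with h | h
    · rw [h]; exact Submodule.mem_span_singleton_self u
    · rw [h]; exact Submodule.neg_mem _ (Submodule.mem_span_singleton_self u)
  rcases Nat.even_or_odd (finrank F (LinearMap.ker (T - 1))) with hKe | hKo
  · have hRo : Odd (finrank F (LinearMap.range (T - 1))) := by
      rcases Nat.even_or_odd (finrank F (LinearMap.range (T - 1))) with h | h
      · exfalso
        have h3 := hKe.add h
        rw [hdim] at h3
        exact (Nat.not_even_iff_odd.mpr hodd) h3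
      · exact h
    by_cases hex : finrank F (LinearMap.range (T - 1)) = 1 ∧ m + 1 = finrank F V
    · obtain ⟨u, hu, -, hH, hfin⟩ := hhp _ hK (by omega)
      exact ⟨B.orthogonal (Submodule.span F {u}), by omega, hH,
        perp_invariant hN hT (hspan u (Or.inl (hTK u hu)))⟩
    · obtain ⟨X, Y, hX, hY, hH, hfin⟩ := hsum _ _ hR hK hRK hRo (by omega) hex
      exact ⟨X ⊔ Y, hfin, hH, hinv' X Y hX hY⟩
  · by_cases hex : finrank F (LinearMap.ker (T - 1)) = 1 ∧ m + 1 = finrank F V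
    · obtain ⟨u, hu, -, hH, hfin⟩ := hhp _ hR (by omega)
      exact ⟨B.orthogonal (Submodule.span F {u}), by omega, hH,
        perp_invariant hN hT (hspan u (Or.inr (hTR u hu)))⟩
    · obtain ⟨X, Y, hX, hY, hH, hfin⟩ := hsum _ _ hK hR hKR hKo hdim hex
      exact ⟨X ⊔ Y, hfin, hH, hinv X Y hX hY⟩

end Cfsg.Agent.Lib.Helper62.Hy
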