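import Mathlib
import Cfsg.Prelude.Def_Transfer
import Cfsg.Agent.Lib.Helper45.NRankDefs

/-!
# Piece NEA2 of the S2250 project (helper45): transfer of a normal elementary abelian
subgroup from a model 2-group of full order to every Sylow 2-subgroup.
-/

set_option autoImplicit false

namespace Cfsg.Agent.Lib.Helper62.NRank

open Cfsg.Agent.Lib.Helper45.NRank

/-! ### NEA2 (transfer to every Sylow 2-subgroup, pure group theory) -/
theorem sylow_nea_of_hom {G : Type*} [Group G] [Finite G] {T : Type*} [Group T] [Finite T]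
    (φ : T →* G) (hφ : Function.Injective φ) (hT : IsPGroup 2 T)
    (hdvd : 2 ^ (Nat.card G).factorization 2 ∣ Nat.card T) (k : ℕ) (hE : NEA T k)
    (P : Sylow 2 G) :
    ∃ E : Subgroup ↥(P : Subgroup G), E.Normal ∧ Cfsg.IsElementaryAbelian 2 E ∧
      Nat.card E = 2 ^ k := by
  have hfact : Fact (Nat.Prime 2) := ⟨Nat.prime_two⟩
  have hcR : Nat.card φ.range = Nat.card T :=
    Nat.card_congr (MonoidHom.ofInjective hφ).toEquiv.symm
  obtain ⟨j, hj⟩ := IsPGroup.iff_card.1 hT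
  have h1 : Nat.card φ.range ∣ Nat.card G := Subgroup.card_subgroup_dvd_card _
  have h2 : Nat.card T = 2 ^ (Nat.card G).factorization 2 := by
    rw [hj] at hdvd ⊢
    rw [hcR, hj] at h1
    have h3 : (Nat.card G).factorization 2 ≤ j :=
      (Nat.pow_dvd_pow_iff_le_right (by norm_num)).1 hdvd
    have h4 : j ≤ (Nat.card G).factorization 2 :=
      (Nat.Prime.pow_dvd_iff_le_factorization Nat.prime_two Nat.card_pos.ne').1 h1
    rw [le_antisymm h4 h3]
  obtain ⟨R, hR⟩ : ∃ R : Sylow 2 G, (R : Subgroup G) = φ.range :=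
    ⟨Sylow.ofCard φ.range (by rw [hcR, h2]), rfl⟩
  have e1 : P ≃* R := Sylow.equiv P R
  have e2 : T ≃* (R : Subgroup G) := by
    rw [hR]
    exact MonoidHom.ofInjective hφ
  obtain ⟨e⟩ : Nonempty (T ≃* ↥(P : Subgroup G)) := ⟨e2.trans e1.symm⟩
  obtain ⟨E, hEn, hEc, hE2, hEcard⟩ := hE
  refine ⟨E.map e.toMonoidHom, hEn.map e.toMonoidHom e.surjective, ⟨⟨⟨fun a b => ?_⟩⟩, ?_⟩, ?_⟩
  · obtain ⟨a, ha⟩ := a
    obtain ⟨b, hb⟩ := b
    obtain ⟨a', ha', rfl⟩ := Subgroup.mem_map.mp ha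
    obtain ⟨b', hb', rfl⟩ := Subgroup.mem_map.mp hb
    apply Subtype.ext
    show e.toMonoidHom a' * e.toMonoidHom b' = e.toMonoidHom b' * e.toMonoidHom a'
    rw [← map_mul, ← map_mul, hEc a' ha' b' hb']
  · intro a ha
    obtain ⟨a', ha', rfl⟩ := Subgroup.mem_map.mp ha
    rw [← map_pow, hE2 a' ha', map_one]
  · rw [Subgroup.card_map_of_injective e.injective, hEcard]

end Cfsg.Agent.Lib.Helper62.NRank
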