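import Cfsg.Agent.Lib.Helper62.PG7920FR
import Cfsg.Agent.Lib.Helper62.PG7920SR
import Cfsg.Agent.S0494
import Cfsg.Agent.S0497

set_option autoImplicit false

/-! # S3431 pieces END5 / END6 (helper62): a group of order 60 (resp. 360) with the order
statistics of `A₅` (resp. `A₆`) is simple, hence isomorphic to `A₅` (resp. `A₆`). -/

namespace Cfsg.Agent.Lib.Helper62.NseEnd

open Cfsg.Agent.Lib.Helper62.PG7920

/-- an element of prime order `p` lies in every normal subgroup of index prime to `p` -/
private theorem mem_of_index {G : Type*} [Group G] [Finite G] (N : Subgroup G) [N.Normal]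
    (p : ℕ) (hp : p.Prime) (hidx : ¬ p ∣ N.index) (x : G) (hx : orderOf x = p) : x ∈ N := by
  have h1 : orderOf (QuotientGroup.mk' N x) ∣ p := hx ▸ orderOf_map_dvd (QuotientGroup.mk' N) x
  have h2 : orderOf (QuotientGroup.mk' N x) ∣ N.index := by
    rw [Subgroup.index_eq_card]; exact orderOf_dvd_natCard _
  rcases (Nat.dvd_prime hp).mp h1 with h | h
  · rw [orderOf_eq_one_iff] at h
    exact (QuotientGroup.eq_one_iff x).mp h
  · exact absurd (h ▸ h2) hidx

private theorem count1 {G : Type*} [Group G] [Finite G] (N : Subgroup G) (k : ℕ) (hk : k ≠ 1)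
    (h : ∀ x : G, orderOf x = k → x ∈ N) :
    1 + Nat.card {g : G // orderOf g = k} ≤ Nat.card N := by
  classical
  let f : Option {g : G // orderOf g = k} → N := fun o =>
    match o with
    | none => 1
    | some g => ⟨g.1, h g.1 g.2⟩
  have hf : Function.Injective f := by
    intro a b hab
    match a, b with
    | none, none => rfl
    | none, some g =>
      exfalso
      have e : (1 : G) = g.1 := congrArg Subtype.val hab
      have := g.2
      rw [← e, orderOf_one] at this
      exact hk this.symm
    | some g, none =>
      exfalso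
      have e : g.1 = (1 : G) := congrArg Subtype.val hab
      have := g.2
      rw [e, orderOf_one] at this
      exact hk this.symm
    | some g, some g' =>
      have e : g.1 = g'.1 := congrArg (fun z : N => (z : G)) hab
      rw [Subtype.ext e]
  have := Nat.card_le_card_of_injective f hf
  rw [Finite.card_option] at this
  omega

private theorem count2 {G : Type*} [Group G] [Finite G] (N : Subgroup G)
    (h5 : ∀ x : G, orderOf x = 5 → x ∈ N) (h3 : ∀ x : G, orderOf x = 3 → x ∈ N) :
    1 + Nat.card {g : G // orderOf g = 5} + Nat.card {g : G // orderOf g = 3} ≤ Nat.card N := by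
  classical
  let f : Option ({g : G // orderOf g = 5} ⊕ {g : G // orderOf g = 3}) → N := fun o =>
    match o with
    | none => 1
    | some (Sum.inl g) => ⟨g.1, h5 g.1 g.2⟩
    | some (Sum.inr g) => ⟨g.1, h3 g.1 g.2⟩
  have hf : Function.Injective f := by
    intro a b hab
    match a, b with
    | none, none => rfl
    | none, some (Sum.inl g) =>
      exfalso
      have e : (1 : G) = g.1 := congrArg Subtype.val hab
      have := g.2
      rw [← e, orderOf_one] at this
      omega
    | none, some (Sum.inr g) =>
      exfalso
      have e : (1 : G) = g.1 := congrArg Subtype.val hab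
      have := g.2
      rw [← e, orderOf_one] at this
      omega
    | some (Sum.inl g), none =>
      exfalso
      have e : g.1 = (1 : G) := congrArg Subtype.val hab
      have := g.2
      rw [e, orderOf_one] at this
      omega
    | some (Sum.inr g), none =>
      exfalso
      have e : g.1 = (1 : G) := congrArg Subtype.val hab
      have := g.2
      rw [e, orderOf_one] at this
      omega
    | some (Sum.inl g), some (Sum.inl g') =>
      have e : g.1 = g'.1 := congrArg (fun z : N => (z : G)) hab
      rw [Subtype.ext e]
    | some (Sum.inr g), some (Sum.inr g') =>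
      have e : g.1 = g'.1 := congrArg (fun z : N => (z : G)) hab
      rw [Subtype.ext e]
    | some (Sum.inl g), some (Sum.inr g') =>
      exfalso
      have e : g.1 = g'.1 := congrArg Subtype.val hab
      have h1 := g.2
      have h2 := g'.2
      rw [e] at h1
      omega
    | some (Sum.inr g), some (Sum.inl g') =>
      exfalso
      have e : g.1 = g'.1 := congrArg Subtype.val hab
      have h1 := g.2
      have h2 := g'.2
      rw [e] at h1
      omega
  have := Nat.card_le_card_of_injective f hf
  rw [Finite.card_option, Nat.card_sum] at this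
  omega

/-- the common simplicity argument -/
theorem simple_of_counts {G : Type*} [Group G] [Finite G] (M : ℕ) (hN : Nat.card G = M)
    (hM5 : 5 ∣ M) (hM25 : ¬ 25 ∣ M) (c3 c5 : ℕ)
    (h3 : Nat.card {g : G // orderOf g = 3} = c3) (h5 : Nat.card {g : G // orderOf g = 5} = c5)
    (hord : ∀ g : G, orderOf g ≤ 5)
    (hA : ∀ n : ℕ, n ∣ M → n ≠ M → 1 + c5 ≤ n → M = n * 2 ∧ n < 1 + c5 + c3)
    (hB : ∀ p e : ℕ, p.Prime → p ≠ 5 → 1 ≤ e → p ^ e ∣ M → ¬ 5 ∣ p ^ e - 1) :
    IsSimpleGroup G := by
  have hMpos : 0 < M := hN ▸ Nat.card_pos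
  haveI : Nontrivial G := by
    rw [← Finite.one_lt_card_iff_nontrivial, hN]
    have := Nat.le_of_dvd hMpos hM5
    omega
  refine ⟨fun N hNn => ?_⟩
  haveI := hNn
  by_contra hcon
  push Not at hcon
  obtain ⟨hbot, htop⟩ := hcon
  have hnM : Nat.card N ∣ M := hN ▸ Subgroup.card_subgroup_dvd_card N
  have hne : Nat.card N ≠ M := by
    intro h
    exact htop ((Subgroup.card_eq_iff_eq_top N).mp (h.trans hN.symm))
  have hidx : Nat.card N * N.index = M := hN ▸ Subgroup.card_mul_index N
  by_cases h5n : 5 ∣ Nat.card N
  · -- Case A
    have hi5 : ¬ 5 ∣ N.index := by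
      intro h
      apply hM25
      rw [← hidx]
      exact mul_dvd_mul h5n h
    have hall5 : ∀ x : G, orderOf x = 5 → x ∈ N := fun x hx =>
      mem_of_index N 5 (by norm_num) hi5 x hx
    have hc1 := count1 N 5 (by norm_num) hall5
    rw [h5] at hc1
    obtain ⟨hM2, hlt⟩ := hA (Nat.card N) hnM hne hc1
    have hi2 : N.index = 2 := by
      have hpos : 0 < Nat.card N := Nat.card_pos
      have : Nat.card N * N.index = Nat.card N * 2 := by rw [hidx, hM2]
      exact Nat.eq_of_mul_eq_mul_left hpos this
    have hall3 : ∀ x : G, orderOf x = 3 → x ∈ N := fun x hx =>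
      mem_of_index N 3 (by norm_num) (by rw [hi2]; norm_num) x hx
    have hc2 := count2 N hall5 hall3
    rw [h5, h3] at hc2
    omega
  · -- Case B
    have hn1 : Nat.card N ≠ 1 := by
      intro h
      exact hbot (Subgroup.card_eq_one.mp h)
    obtain ⟨p, hp, hpn⟩ := Nat.exists_prime_and_dvd hn1
    have hp5 : p ≠ 5 := by
      rintro rfl
      exact h5n hpn
    haveI : Fact p.Prime := ⟨hp⟩
    haveI : Fact (Nat.Prime 5) := ⟨by norm_num⟩
    have h5G : 5 ^ 1 ∣ Nat.card G := by rw [hN, pow_one]; exact hM5
    obtain ⟨T, Q, hTN, hTcard, hQT, hQcard⟩ := exists_sylow_normalized N p 5 h5n 1 h5G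
    have he : 1 ≤ (Nat.card N).factorization p :=
      hp.factorization_pos_of_dvd Nat.card_pos.ne' hpn
    have hTM : p ^ (Nat.card N).factorization p ∣ M := by
      rw [← hTcard, ← hN]; exact Subgroup.card_subgroup_dvd_card T
    have hnd := hB p _ hp hp5 he hTM
    have hadj : Adj G 5 p := by
      apply adj_of_normalizes hp (by norm_num) hp5 Q T (IsPGroup.of_card hQcard)
        (IsPGroup.of_card hTcard) hQT
      rw [hQcard, hTcard, pow_one]
      exact hnd
    obtain ⟨g, hg⟩ := hadj
    have := hord g
    have := hp.two_le
    rw [hg] at *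
    nlinarith

/-- END5 -/
theorem nse_end5 {G : Type*} [Group G] [Finite G] (hN : Nat.card G = 60)
    (h3 : Nat.card {g : G // orderOf g = 3} = 20) (h5 : Nat.card {g : G // orderOf g = 5} = 24)
    (hord : ∀ g : G, orderOf g = 1 ∨ orderOf g = 2 ∨ orderOf g = 3 ∨ orderOf g = 5) :
    Nonempty (G ≃* ↥(alternatingGroup (Fin 5))) := by
  haveI : IsSimpleGroup G := by
    apply simple_of_counts 60 hN (by norm_num) (by norm_num) 20 24 h3 h5
    · intro g
      rcases hord g with h | h | h | h <;> omega
    · intro n hn hne hle
      have hle' := Nat.le_of_dvd (by norm_num) hn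
      interval_cases n <;> omega
    · intro p e hp hp5 he hd
      have hpd : p ∣ 60 := (dvd_pow_self p (by omega)).trans hd
      have hple := Nat.le_of_dvd (by norm_num) hpd
      interval_cases p <;> first | omega | (exfalso; revert hp; norm_num; done) | skip
      · have he2 : e < 3 := by
          by_contra h
          have h8 : 2 ^ 3 ∣ 60 := (pow_dvd_pow 2 (by omega)).trans hd
          norm_num at h8
        interval_cases e <;> norm_num
      · have he2 : e < 2 := by
          by_contra h
          have h9 : 3 ^ 2 ∣ 60 := (pow_dvd_pow 3 (by omega)).trans hd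
          norm_num at h9
        interval_cases e <;> norm_num
  exact Cfsg.Agent.S0494.result hN

/-- END6 -/
theorem nse_end6 {G : Type*} [Group G] [Finite G] (hN : Nat.card G = 360)
    (h3 : Nat.card {g : G // orderOf g = 3} = 80) (h5 : Nat.card {g : G // orderOf g = 5} = 144)
    (hord : ∀ g : G, orderOf g = 1 ∨ orderOf g = 2 ∨ orderOf g = 3 ∨ orderOf g = 4 ∨
      orderOf g = 5) :
    Nonempty (G ≃* ↥(alternatingGroup (Fin 6))) := by
  haveI : IsSimpleGroup G := by
    apply simple_of_counts 360 hN (by norm_num) (by norm_num) 80 144 h3 h5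
    · intro g
      rcases hord g with h | h | h | h | h <;> omega
    · intro n hn hne hle
      have hle' := Nat.le_of_dvd (by norm_num) hn
      interval_cases n <;> omega
    · intro p e hp hp5 he hd
      have hpd : p ∣ 360 := (dvd_pow_self p (by omega)).trans hd
      have hp5' : p ∣ 2 ^ 3 * 3 ^ 2 * 5 := by norm_num; exact hpd
      rcases (Nat.Prime.dvd_mul hp).mp hp5' with h | h
      · rcases (Nat.Prime.dvd_mul hp).mp h with h | h
        · have e2 := (Nat.prime_dvd_prime_iff_eq hp Nat.prime_two).mp (hp.dvd_of_dvd_pow h)
          subst e2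
          have he2 : e < 4 := by
            by_contra h'
            have h16 : 2 ^ 4 ∣ 360 := (pow_dvd_pow 2 (by omega)).trans hd
            norm_num at h16
          interval_cases e <;> norm_num
        · have e3 := (Nat.prime_dvd_prime_iff_eq hp Nat.prime_three).mp (hp.dvd_of_dvd_pow h)
          subst e3
          have he2 : e < 3 := by
            by_contra h'
            have h27 : 3 ^ 3 ∣ 360 := (pow_dvd_pow 3 (by omega)).trans hd
            norm_num at h27
          interval_cases e <;> norm_num
      · exact absurd ((Nat.prime_dvd_prime_iff_eq hp (by norm_num)).mp h) hp5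
  exact Cfsg.Agent.S0497.result hN

end Cfsg.Agent.Lib.Helper62.NseEnd
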