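import Mathlib

/-!
# Project QB (helper48, S2359), piece NTA, backup copy (helper62)

For `q ≡ 3 (mod 8)` and a prime `r` dividing `(q - 1) / 2`: `r` is odd and the `r`-parts of
`q - 1` and of `q ^ 3 * (q - 1) * (q ^ 3 + 1)` agree.
-/

set_option autoImplicit false

namespace Cfsg.Agent.Lib.Helper48.QB

-- QB-NTA
theorem nt_a (q r : ℕ) (hq8 : q % 8 = 3) (hr : r.Prime) (hdvd : r ∣ (q - 1) / 2) :
    (q - 1).factorization r = (q ^ 3 * (q - 1) * (q ^ 3 + 1)).factorization r ∧ r ≠ 2 := by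
  have hr2 : r ≠ 2 := by
    intro h
    rw [h] at hdvd
    omega
  have hq1 : r ∣ q - 1 := by
    have h1 : q - 1 = 2 * ((q - 1) / 2) := by omega
    rw [h1]
    exact Dvd.dvd.mul_left hdvd 2
  have hq3 : 3 ≤ q := by omega
  have hnq : ¬ r ∣ q := by
    intro h
    have h1 : r ∣ q - (q - 1) := Nat.dvd_sub h hq1
    have h2 : q - (q - 1) = 1 := by omega
    rw [h2] at h1
    exact hr.one_lt.ne' (Nat.dvd_one.1 h1)
  have hnq3 : ¬ r ∣ q ^ 3 + 1 := by
    intro h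
    obtain ⟨k, rfl⟩ : ∃ k : ℕ, q = k + 1 := ⟨q - 1, by omega⟩
    have h1 : (k + 1) ^ 3 + 1 = (k + 1 - 1) * ((k + 1) ^ 2 + (k + 1) + 1) + 2 := by
      rw [Nat.add_sub_cancel]
      ring
    rw [h1] at h
    have h2 : r ∣ 2 := (Nat.dvd_add_right (Dvd.dvd.mul_right hq1 _)).1 h
    exact hr2 ((Nat.prime_dvd_prime_iff_eq hr Nat.prime_two).1 h2)
  refine ⟨?_, hr2⟩
  have hA : q ^ 3 ≠ 0 := by positivity
  have hB : q - 1 ≠ 0 := by omega
  have hC : q ^ 3 + 1 ≠ 0 := by positivity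
  rw [Nat.factorization_mul (mul_ne_zero hA hB) hC, Nat.factorization_mul hA hB,
    Finsupp.add_apply, Finsupp.add_apply,
    Nat.factorization_eq_zero_of_not_dvd (fun h => hnq (hr.dvd_of_dvd_pow h)),
    Nat.factorization_eq_zero_of_not_dvd hnq3, zero_add, add_zero]

end Cfsg.Agent.Lib.Helper48.QB
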