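import Mathlib

/-!
# Project QB (helper48, S2359), piece PRED, backup copy (helper62)

Reduction of a centralizer of a non-identity element `x` with `x ^ n = 1` to the centralizer of
an element of prime order, when centralizers of such elements are commutative.
-/

set_option autoImplicit false

namespace Cfsg.Agent.Lib.Helper48.QB

-- QB-PRED
theorem prime_red {G : Type*} [Group G] [Finite G] (n : ℕ)
    (hkey : ∀ y : G, (orderOf y).Prime → y ^ n = 1 →
      ∀ a ∈ Subgroup.centralizer {y}, ∀ b ∈ Subgroup.centralizer {y}, a * b = b * a)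
    (x : G) (hx : x ≠ 1) (hxn : x ^ n = 1) :
    ∃ y : G, (orderOf y).Prime ∧ y ^ n = 1 ∧
      Subgroup.centralizer {x} = Subgroup.centralizer {y} := by
  have ho1 : orderOf x ≠ 1 := fun h => hx (orderOf_eq_one_iff.1 h)
  have ho0 : orderOf x ≠ 0 := (orderOf_pos x).ne'
  have hrp : (orderOf x).minFac.Prime := Nat.minFac_prime ho1
  have hrd : (orderOf x).minFac ∣ orderOf x := Nat.minFac_dvd _
  have hyo : orderOf (x ^ (orderOf x / (orderOf x).minFac)) = (orderOf x).minFac :=
    orderOf_pow_orderOf_div ho0 hrd
  have hyn : (x ^ (orderOf x / (orderOf x).minFac)) ^ n = 1 := by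
    rw [← pow_mul, mul_comm, pow_mul, hxn, one_pow]
  have hyp : (orderOf (x ^ (orderOf x / (orderOf x).minFac))).Prime := by
    rw [hyo]
    exact hrp
  refine ⟨x ^ (orderOf x / (orderOf x).minFac), hyp, hyn, ?_⟩
  have hxmem : x ∈ Subgroup.centralizer {x ^ (orderOf x / (orderOf x).minFac)} := by
    rw [Subgroup.mem_centralizer_iff]
    intro h hh
    rw [Set.mem_singleton_iff] at hh
    rw [hh]
    exact ((Commute.refl x).pow_left _).eq
  apply le_antisymm
  · intro g hg
    rw [Subgroup.mem_centralizer_iff] at hg ⊢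
    intro h hh
    rw [Set.mem_singleton_iff] at hh
    rw [hh]
    have h1 : Commute x g := hg x (Set.mem_singleton x)
    exact (h1.pow_left _).eq
  · intro g hg
    rw [Subgroup.mem_centralizer_iff]
    intro h hh
    rw [Set.mem_singleton_iff] at hh
    rw [hh]
    exact hkey _ hyp hyn x hxmem g hg

end Cfsg.Agent.Lib.Helper48.QB
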