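import Mathlib
import Cfsg.Prelude.Def_GeometricClasses
import Cfsg.Prelude.Def_LieClassical
import Cfsg.Agent.Lib.Helper71.Asch0
import Cfsg.Agent.Lib.Helper71.SLP0
import Cfsg.Agent.Lib.Helper50.SUQTFS
import Cfsg.Agent.Lib.Helper60.SUQTF

/-!
# Project SU4 (helper50), piece TSN (helper62)

The stabiliser in `SU_4(q)`, `q ≤ 3`, of a decomposition into two totally isotropic planes has
an absolutely irreducible normal subgroup fixing a non-degenerate bilinear form.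

In a basis `u₁, u₂, v₁, v₂` adapted to the decomposition (`v` dual to `u`) the hermitian form
is `su4tsn_h`, the bilinear form is `su4tsn_b` (Gram matrix `diag(J, J)`), and the normal
subgroup is the group of all elements of the stabiliser that preserve `su4tsn_b`.
-/

set_option autoImplicit false

namespace Cfsg.Agent.Lib.Helper62.SU4TSN

open Matrix Cfsg.Geo Cfsg.Agent.Lib.Helper71.Asch
open Cfsg.Agent.Lib.Helper50.SUQTFS
open scoped Kronecker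

variable {n : ℕ} {F : Type*} [Field F] [Fintype F] {q : ℕ}

/-- the hermitian form in the adapted basis -/
def su4tsn_h (q : ℕ) (x y : Fin 4 → F) : F :=
  x 0 * y 2 ^ q + x 1 * y 3 ^ q + x 2 * y 0 ^ q + x 3 * y 1 ^ q

/-- the bilinear form in the adapted basis -/
def su4tsn_b (x y : Fin 4 → F) : F := x 0 * y 1 - x 1 * y 0 + x 2 * y 3 - x 3 * y 2

def su4tsn_U (t s : F) : Matrix (Fin 4) (Fin 4) F :=
  !![1, t, 0, 0; 0, 1, 0, 0; 0, 0, 1, 0; 0, 0, -s, 1]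

def su4tsn_L (t s : F) : Matrix (Fin 4) (Fin 4) F :=
  !![1, 0, 0, 0; t, 1, 0, 0; 0, 0, 1, -s; 0, 0, 0, 1]

def su4tsn_S : Matrix (Fin 4) (Fin 4) F :=
  !![0, 0, 1, 0; 0, 0, 0, 1; 1, 0, 0, 0; 0, 1, 0, 0]

/-- block diagonal pattern -/
def su4tsn_Dg (M : Matrix (Fin 4) (Fin 4) F) : Prop :=
  (∀ x : Fin 4 → F, x 2 = 0 → x 3 = 0 → (M *ᵥ x) 2 = 0 ∧ (M *ᵥ x) 3 = 0) ∧
  (∀ x : Fin 4 → F, x 0 = 0 → x 1 = 0 → (M *ᵥ x) 0 = 0 ∧ (M *ᵥ x) 1 = 0)

/-- block antidiagonal pattern -/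
def su4tsn_Ad (M : Matrix (Fin 4) (Fin 4) F) : Prop :=
  (∀ x : Fin 4 → F, x 2 = 0 → x 3 = 0 → (M *ᵥ x) 0 = 0 ∧ (M *ᵥ x) 1 = 0) ∧
  (∀ x : Fin 4 → F, x 0 = 0 → x 1 = 0 → (M *ᵥ x) 2 = 0 ∧ (M *ᵥ x) 3 = 0)

omit [Fintype F] in
theorem su4tsn_U_mulVec (t s : F) (x : Fin 4 → F) :
    su4tsn_U t s *ᵥ x = ![x 0 + t * x 1, x 1, x 2, x 3 - s * x 2] := by
  ext i
  fin_cases i <;> simp [su4tsn_U, Matrix.mulVec, dotProduct, Fin.sum_univ_four] <;> ring

omit [Fintype F] in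
theorem su4tsn_L_mulVec (t s : F) (x : Fin 4 → F) :
    su4tsn_L t s *ᵥ x = ![x 0, x 1 + t * x 0, x 2 - s * x 3, x 3] := by
  ext i
  fin_cases i <;> simp [su4tsn_L, Matrix.mulVec, dotProduct, Fin.sum_univ_four] <;> ring

omit [Fintype F] in
theorem su4tsn_S_mulVec (x : Fin 4 → F) :
    su4tsn_S *ᵥ x = ![x 2, x 3, x 0, x 1] := by
  ext i
  fin_cases i <;> simp [su4tsn_S, Matrix.mulVec, dotProduct, Fin.sum_univ_four]

omit [Fintype F] in
theorem su4tsn_h_vec (q : ℕ) (a0 a1 a2 a3 b0 b1 b2 b3 : F) :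
    su4tsn_h q ![a0, a1, a2, a3] ![b0, b1, b2, b3] =
      a0 * b2 ^ q + a1 * b3 ^ q + a2 * b0 ^ q + a3 * b1 ^ q := by
  simp [su4tsn_h]

omit [Fintype F] in
theorem su4tsn_b_vec (a0 a1 a2 a3 b0 b1 b2 b3 : F) :
    su4tsn_b ![a0, a1, a2, a3] ![b0, b1, b2, b3] = a0 * b1 - a1 * b0 + a2 * b3 - a3 * b2 := by
  simp [su4tsn_b]

theorem su4tsn_sub_pow (hF : Fintype.card F = q ^ 2) (a b : F) :
    (a - b) ^ q = a ^ q - b ^ q := by
  have h := suqtfs_add_pow hF (a - b) b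
  rw [sub_add_cancel] at h
  rw [h]
  ring

theorem su4tsn_U_h (hF : Fintype.card F = q ^ 2) (t s : F) (hs : s = t ^ q) (x y : Fin 4 → F) :
    su4tsn_h q (su4tsn_U t s *ᵥ x) (su4tsn_U t s *ᵥ y) = su4tsn_h q x y := by
  subst hs
  rw [su4tsn_U_mulVec, su4tsn_U_mulVec, su4tsn_h_vec, su4tsn_sub_pow hF, suqtfs_add_pow hF,
    mul_pow, mul_pow, suqtfs_frob2 hF]
  unfold su4tsn_h
  ring

theorem su4tsn_L_h (hF : Fintype.card F = q ^ 2) (t s : F) (hs : s = t ^ q) (x y : Fin 4 → F) :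
    su4tsn_h q (su4tsn_L t s *ᵥ x) (su4tsn_L t s *ᵥ y) = su4tsn_h q x y := by
  subst hs
  rw [su4tsn_L_mulVec, su4tsn_L_mulVec, su4tsn_h_vec, su4tsn_sub_pow hF, suqtfs_add_pow hF,
    mul_pow, mul_pow, suqtfs_frob2 hF]
  unfold su4tsn_h
  ring

omit [Fintype F] in
theorem su4tsn_S_h (x y : Fin 4 → F) :
    su4tsn_h q (su4tsn_S *ᵥ x) (su4tsn_S *ᵥ y) = su4tsn_h q x y := by
  rw [su4tsn_S_mulVec, su4tsn_S_mulVec, su4tsn_h_vec]
  unfold su4tsn_h
  ring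

omit [Fintype F] in
theorem su4tsn_U_b (t s : F) (x y : Fin 4 → F) :
    su4tsn_b (su4tsn_U t s *ᵥ x) (su4tsn_U t s *ᵥ y) = su4tsn_b x y := by
  rw [su4tsn_U_mulVec, su4tsn_U_mulVec, su4tsn_b_vec]
  unfold su4tsn_b
  ring

omit [Fintype F] in
theorem su4tsn_L_b (t s : F) (x y : Fin 4 → F) :
    su4tsn_b (su4tsn_L t s *ᵥ x) (su4tsn_L t s *ᵥ y) = su4tsn_b x y := by
  rw [su4tsn_L_mulVec, su4tsn_L_mulVec, su4tsn_b_vec]
  unfold su4tsn_b
  ring

omit [Fintype F] in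
theorem su4tsn_S_b (x y : Fin 4 → F) :
    su4tsn_b (su4tsn_S *ᵥ x) (su4tsn_S *ᵥ y) = su4tsn_b x y := by
  rw [su4tsn_S_mulVec, su4tsn_S_mulVec, su4tsn_b_vec]
  unfold su4tsn_b
  ring

omit [Fintype F] in
theorem su4tsn_U_det (t s : F) : (su4tsn_U t s).det = 1 := by
  rw [Matrix.det_succ_row_zero]
  simp [Fin.sum_univ_succ, Matrix.det_fin_three, Fin.succAbove, su4tsn_U]

omit [Fintype F] in
theorem su4tsn_L_det (t s : F) : (su4tsn_L t s).det = 1 := by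
  rw [Matrix.det_succ_row_zero]
  simp [Fin.sum_univ_succ, Matrix.det_fin_three, Fin.succAbove, su4tsn_L]

omit [Fintype F] in
theorem su4tsn_S_det : (su4tsn_S : Matrix (Fin 4) (Fin 4) F).det = 1 := by
  rw [Matrix.det_succ_row_zero]
  simp [Fin.sum_univ_succ, Matrix.det_fin_three, Fin.succAbove, su4tsn_S]

omit [Fintype F] in
theorem su4tsn_U_Dg (t s : F) : su4tsn_Dg (su4tsn_U t s) := by
  constructor
  · intro x h2 h3
    rw [su4tsn_U_mulVec]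
    simp [h2, h3]
  · intro x h0 h1
    rw [su4tsn_U_mulVec]
    simp [h0, h1]

omit [Fintype F] in
theorem su4tsn_L_Dg (t s : F) : su4tsn_Dg (su4tsn_L t s) := by
  constructor
  · intro x h2 h3
    rw [su4tsn_L_mulVec]
    simp [h2, h3]
  · intro x h0 h1
    rw [su4tsn_L_mulVec]
    simp [h0, h1]

omit [Fintype F] in
theorem su4tsn_S_Ad : su4tsn_Ad (su4tsn_S : Matrix (Fin 4) (Fin 4) F) := by
  constructor
  · intro x h2 h3
    rw [su4tsn_S_mulVec]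
    simp [h2, h3]
  · intro x h0 h1
    rw [su4tsn_S_mulVec]
    simp [h0, h1]

omit [Fintype F] in
theorem su4tsn_col (M : Matrix (Fin 4) (Fin 4) F) (i j : Fin 4) :
    (M *ᵥ Pi.single j 1) i = M i j := by
  simp [Matrix.mulVec, dotProduct, Pi.single_apply]

omit [Fintype F] in
theorem su4tsn_Dg_entries {M : Matrix (Fin 4) (Fin 4) F} (h : su4tsn_Dg M) :
    M 2 0 = 0 ∧ M 2 1 = 0 ∧ M 3 0 = 0 ∧ M 3 1 = 0 ∧ M 0 2 = 0 ∧ M 0 3 = 0 ∧ M 1 2 = 0 ∧
      M 1 3 = 0 := by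
  have a0 := h.1 (Pi.single 0 1) (by simp [Pi.single_apply]) (by simp [Pi.single_apply])
  have a1 := h.1 (Pi.single 1 1) (by simp [Pi.single_apply]) (by simp [Pi.single_apply])
  have a2 := h.2 (Pi.single 2 1) (by simp [Pi.single_apply]) (by simp [Pi.single_apply])
  have a3 := h.2 (Pi.single 3 1) (by simp [Pi.single_apply]) (by simp [Pi.single_apply])
  rw [su4tsn_col, su4tsn_col] at a0 a1 a2 a3
  exact ⟨a0.1, a1.1, a0.2, a1.2, a2.1, a3.1, a2.2, a3.2⟩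

omit [Fintype F] in
theorem su4tsn_det_dg (M : Matrix (Fin 4) (Fin 4) F) (h20 : M 2 0 = 0) (h21 : M 2 1 = 0)
    (h30 : M 3 0 = 0) (h31 : M 3 1 = 0) (h02 : M 0 2 = 0) (h03 : M 0 3 = 0) (h12 : M 1 2 = 0)
    (h13 : M 1 3 = 0) :
    M.det = (M 0 0 * M 1 1 - M 0 1 * M 1 0) * (M 2 2 * M 3 3 - M 2 3 * M 3 2) := by
  rw [Matrix.det_succ_row_zero]
  simp [Fin.sum_univ_succ, Matrix.det_fin_three, Fin.succAbove, h20, h21, h30, h31, h02, h03,
    h12, h13]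
  ring

/-- a block diagonal isometry of determinant one is a similarity of `su4tsn_b` -/
theorem su4tsn_sim (hF : Fintype.card F = q ^ 2) (hq : q ≤ 3) (M : Matrix (Fin 4) (Fin 4) F)
    (hM : su4tsn_Dg M) (hh : ∀ x y, su4tsn_h q (M *ᵥ x) (M *ᵥ y) = su4tsn_h q x y)
    (hdet : M.det = 1) :
    ∃ l : F, ∀ x y, su4tsn_b (M *ᵥ x) (M *ᵥ y) = l * su4tsn_b x y := by
  obtain ⟨h20, h21, h30, h31, h02, h03, h12, h13⟩ := su4tsn_Dg_entries hM
  have hq0 : q ≠ 0 := (suqtfs_q_pos hF).ne'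
  have hdd : (M 0 0 * M 1 1 - M 0 1 * M 1 0) * (M 2 2 * M 3 3 - M 2 3 * M 3 2) = 1 := by
    rw [← su4tsn_det_dg M h20 h21 h30 h31 h02 h03 h12 h13, hdet]
  have hcol : ∀ i j : Fin 4, M 0 i * M 2 j ^ q + M 1 i * M 3 j ^ q + M 2 i * M 0 j ^ q +
      M 3 i * M 1 j ^ q = su4tsn_h q (Pi.single i 1) (Pi.single j 1) := by
    intro i j
    rw [← hh]
    simp only [su4tsn_h, su4tsn_col]
  have r02 : su4tsn_h q (Pi.single (0 : Fin 4) (1 : F)) (Pi.single 2 1) = 1 := by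
    simp [su4tsn_h, Pi.single_apply]
  have r03 : su4tsn_h q (Pi.single (0 : Fin 4) (1 : F)) (Pi.single 3 1) = 0 := by
    simp [su4tsn_h, Pi.single_apply, zero_pow hq0]
  have r13 : su4tsn_h q (Pi.single (1 : Fin 4) (1 : F)) (Pi.single 3 1) = 1 := by
    simp [su4tsn_h, Pi.single_apply]
  have E02 := (hcol 0 2).trans r02
  have E03 := (hcol 0 3).trans r03
  have E13 := (hcol 1 3).trans r13
  rw [h20, h30] at E02 E03
  rw [h21, h31] at E13
  have hdq : (M 0 0 * M 1 1 - M 0 1 * M 1 0) * (M 2 2 * M 3 3 - M 2 3 * M 3 2) ^ q = 1 := by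
    rw [su4tsn_sub_pow hF, mul_pow, mul_pow]
    linear_combination (M 0 1 * M 2 3 ^ q + M 1 1 * M 3 3 ^ q) * E02 + E13 -
      (M 0 1 * M 2 2 ^ q + M 1 1 * M 3 2 ^ q) * E03
  have hC0 : M 2 2 * M 3 3 - M 2 3 * M 3 2 ≠ 0 := by
    intro h
    rw [h, mul_zero] at hdd
    exact zero_ne_one hdd
  have hA0 : M 0 0 * M 1 1 - M 0 1 * M 1 0 ≠ 0 := by
    intro h
    rw [h, zero_mul] at hdd
    exact zero_ne_one hdd
  have hCq : (M 2 2 * M 3 3 - M 2 3 * M 3 2) ^ q = M 2 2 * M 3 3 - M 2 3 * M 3 2 := by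
    have h1 : (M 0 0 * M 1 1 - M 0 1 * M 1 0) * (M 2 2 * M 3 3 - M 2 3 * M 3 2) ^ q =
        (M 0 0 * M 1 1 - M 0 1 * M 1 0) * (M 2 2 * M 3 3 - M 2 3 * M 3 2) := by
      rw [hdq, hdd]
    exact mul_left_cancel₀ hA0 h1
  have heq : M 0 0 * M 1 1 - M 0 1 * M 1 0 = M 2 2 * M 3 3 - M 2 3 * M 3 2 := by
    have hq2 : 2 ≤ q := by
      by_contra hlt
      have hq1 : q = 1 := by omega
      have h1 := Fintype.one_lt_card (α := F)
      rw [hF, hq1] at h1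
      norm_num at h1
    generalize M 0 0 * M 1 1 - M 0 1 * M 1 0 = dA at hdd hC0 hA0 hCq ⊢
    generalize M 2 2 * M 3 3 - M 2 3 * M 3 2 = dC at hdd hC0 hCq ⊢
    have hq23 : q = 2 ∨ q = 3 := by omega
    rcases hq23 with h | h
    · rw [h] at hCq
      have hC1 : dC = 1 := by
        have h1 : dC * dC = dC * 1 := by rw [mul_one, ← pow_two]; exact hCq
        exact mul_left_cancel₀ hC0 h1
      linear_combination hdd - (dA + 1) * hC1
    · rw [h] at hCq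
      have hC2 : dC * dC = 1 := by
        have h1 : dC * (dC * dC) = dC * 1 := by rw [mul_one]; linear_combination hCq
        exact mul_left_cancel₀ hC0 h1
      linear_combination dC * hdd - dA * hC2
  refine ⟨M 2 2 * M 3 3 - M 2 3 * M 3 2, fun x y => ?_⟩
  have e : su4tsn_b (M *ᵥ x) (M *ᵥ y) =
      (M 0 0 * M 1 1 - M 0 1 * M 1 0) * (x 0 * y 1 - x 1 * y 0) +
        (M 2 2 * M 3 3 - M 2 3 * M 3 2) * (x 2 * y 3 - x 3 * y 2) := by
    simp only [su4tsn_b, Matrix.mulVec, dotProduct, Fin.sum_univ_four, h20, h21, h30, h31, h02,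
      h03, h12, h13]
    ring
  rw [e, heq]
  unfold su4tsn_b
  ring

theorem su4tsn_sim_all (hF : Fintype.card F = q ^ 2) (hq : q ≤ 3)
    (M : Matrix (Fin 4) (Fin 4) F) (hM : su4tsn_Dg M ∨ su4tsn_Ad M)
    (hh : ∀ x y, su4tsn_h q (M *ᵥ x) (M *ᵥ y) = su4tsn_h q x y) (hdet : M.det = 1) :
    ∃ l : F, ∀ x y, su4tsn_b (M *ᵥ x) (M *ᵥ y) = l * su4tsn_b x y := by
  rcases hM with hM | hM
  · exact su4tsn_sim hF hq M hM hh hdet
  · have hSS : ∀ x : Fin 4 → F, su4tsn_S *ᵥ (su4tsn_S *ᵥ x) = x := by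
      intro x
      rw [su4tsn_S_mulVec, su4tsn_S_mulVec]
      ext i
      fin_cases i <;> simp
    have hDg : su4tsn_Dg (M * su4tsn_S) := by
      constructor
      · intro x h2 h3
        rw [← Matrix.mulVec_mulVec]
        apply hM.2
        · rw [su4tsn_S_mulVec]
          simpa using h2
        · rw [su4tsn_S_mulVec]
          simpa using h3
      · intro x h0 h1
        rw [← Matrix.mulVec_mulVec]
        apply hM.1
        · rw [su4tsn_S_mulVec]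
          simpa using h0
        · rw [su4tsn_S_mulVec]
          simpa using h1
    have hh' : ∀ x y, su4tsn_h q ((M * su4tsn_S) *ᵥ x) ((M * su4tsn_S) *ᵥ y) = su4tsn_h q x y := by
      intro x y
      rw [← Matrix.mulVec_mulVec, ← Matrix.mulVec_mulVec, hh, su4tsn_S_h]
    have hdet' : (M * su4tsn_S).det = 1 := by
      rw [Matrix.det_mul, hdet, su4tsn_S_det, one_mul]
    obtain ⟨l, hl⟩ := su4tsn_sim hF hq (M * su4tsn_S) hDg hh' hdet'
    refine ⟨l, fun x y => ?_⟩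
    have h1 := hl (su4tsn_S *ᵥ x) (su4tsn_S *ᵥ y)
    rw [← Matrix.mulVec_mulVec, ← Matrix.mulVec_mulVec, hSS, hSS, su4tsn_S_b] at h1
    exact h1

/-! ### The commutant and irreducibility of the model group -/

omit [Fintype F] in
theorem su4tsn_XU (t s : F) (X : Matrix (Fin 4) (Fin 4) F) (i : Fin 4) :
    (X * su4tsn_U t s) i 0 = X i 0 ∧ (X * su4tsn_U t s) i 1 = t * X i 0 + X i 1 ∧
      (X * su4tsn_U t s) i 2 = X i 2 - s * X i 3 ∧ (X * su4tsn_U t s) i 3 = X i 3 := by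
  refine ⟨?_, ?_, ?_, ?_⟩ <;> simp [su4tsn_U, Matrix.mul_apply, Fin.sum_univ_four] <;> ring

omit [Fintype F] in
theorem su4tsn_UX (t s : F) (X : Matrix (Fin 4) (Fin 4) F) (j : Fin 4) :
    (su4tsn_U t s * X) 0 j = X 0 j + t * X 1 j ∧ (su4tsn_U t s * X) 1 j = X 1 j ∧
      (su4tsn_U t s * X) 2 j = X 2 j ∧ (su4tsn_U t s * X) 3 j = X 3 j - s * X 2 j := by
  refine ⟨?_, ?_, ?_, ?_⟩ <;> simp [su4tsn_U, Matrix.mul_apply, Fin.sum_univ_four] <;> ring

omit [Fintype F] in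
theorem su4tsn_XL (t s : F) (X : Matrix (Fin 4) (Fin 4) F) (i : Fin 4) :
    (X * su4tsn_L t s) i 0 = X i 0 + t * X i 1 ∧ (X * su4tsn_L t s) i 1 = X i 1 ∧
      (X * su4tsn_L t s) i 2 = X i 2 ∧ (X * su4tsn_L t s) i 3 = X i 3 - s * X i 2 := by
  refine ⟨?_, ?_, ?_, ?_⟩ <;> simp [su4tsn_L, Matrix.mul_apply, Fin.sum_univ_four] <;> ring

omit [Fintype F] in
theorem su4tsn_LX (t s : F) (X : Matrix (Fin 4) (Fin 4) F) (j : Fin 4) :
    (su4tsn_L t s * X) 0 j = X 0 j ∧ (su4tsn_L t s * X) 1 j = t * X 0 j + X 1 j ∧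
      (su4tsn_L t s * X) 2 j = X 2 j - s * X 3 j ∧ (su4tsn_L t s * X) 3 j = X 3 j := by
  refine ⟨?_, ?_, ?_, ?_⟩ <;> simp [su4tsn_L, Matrix.mul_apply, Fin.sum_univ_four] <;> ring

omit [Fintype F] in
theorem su4tsn_XS (X : Matrix (Fin 4) (Fin 4) F) (i : Fin 4) :
    (X * (su4tsn_S : Matrix (Fin 4) (Fin 4) F)) i 2 = X i 0 := by
  simp [su4tsn_S, Matrix.mul_apply, Fin.sum_univ_four]

omit [Fintype F] in
theorem su4tsn_SX (X : Matrix (Fin 4) (Fin 4) F) (j : Fin 4) :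
    ((su4tsn_S : Matrix (Fin 4) (Fin 4) F) * X) 0 j = X 2 j := by
  simp [su4tsn_S, Matrix.mul_apply, Fin.sum_univ_four]

omit [Fintype F] in
theorem su4tsn_comm (t₀ s₀ : F) (hne : s₀ ≠ t₀) (X : Matrix (Fin 4) (Fin 4) F)
    (hU1 : X * su4tsn_U 1 1 = su4tsn_U 1 1 * X)
    (hU2 : X * su4tsn_U t₀ s₀ = su4tsn_U t₀ s₀ * X)
    (hL1 : X * su4tsn_L 1 1 = su4tsn_L 1 1 * X)
    (hS : X * su4tsn_S = su4tsn_S * X) :
    ∃ c : F, X = c • (1 : Matrix (Fin 4) (Fin 4) F) := by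
  have hd : s₀ - t₀ ≠ 0 := sub_ne_zero.2 hne
  have eU1 : ∀ i j : Fin 4, (X * su4tsn_U (1 : F) 1 : Matrix (Fin 4) (Fin 4) F) i j =
      (su4tsn_U (1 : F) 1 * X : Matrix (Fin 4) (Fin 4) F) i j := fun i j => by rw [hU1]
  have eU2 : ∀ i j : Fin 4, (X * su4tsn_U t₀ s₀ : Matrix (Fin 4) (Fin 4) F) i j =
      (su4tsn_U t₀ s₀ * X : Matrix (Fin 4) (Fin 4) F) i j := fun i j => by rw [hU2]
  have eL1 : ∀ i j : Fin 4, (X * su4tsn_L (1 : F) 1 : Matrix (Fin 4) (Fin 4) F) i j =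
      (su4tsn_L (1 : F) 1 * X : Matrix (Fin 4) (Fin 4) F) i j := fun i j => by rw [hL1]
  have eS : ∀ i j : Fin 4, (X * (su4tsn_S : Matrix (Fin 4) (Fin 4) F)) i j =
      ((su4tsn_S : Matrix (Fin 4) (Fin 4) F) * X) i j := fun i j => by rw [hS]
  have h10 : X 1 0 = 0 := by
    have h := eU1 1 1
    rw [(su4tsn_XU 1 1 X 1).2.1, (su4tsn_UX 1 1 X 1).2.1] at h
    linear_combination h
  have h20 : X 2 0 = 0 := by
    have h := eU1 2 1
    rw [(su4tsn_XU 1 1 X 2).2.1, (su4tsn_UX 1 1 X 1).2.2.1] at h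
    linear_combination h
  have h13 : X 1 3 = 0 := by
    have h := eU1 0 3
    rw [(su4tsn_XU 1 1 X 0).2.2.2, (su4tsn_UX 1 1 X 3).1] at h
    linear_combination -h
  have h23 : X 2 3 = 0 := by
    have h := eU1 2 2
    rw [(su4tsn_XU 1 1 X 2).2.2.1, (su4tsn_UX 1 1 X 2).2.2.1] at h
    linear_combination -h
  have h11 : X 1 1 = X 0 0 := by
    have h := eU1 0 1
    rw [(su4tsn_XU 1 1 X 0).2.1, (su4tsn_UX 1 1 X 1).1] at h
    linear_combination -h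
  have h33 : X 3 3 = X 2 2 := by
    have h := eU1 3 2
    rw [(su4tsn_XU 1 1 X 3).2.2.1, (su4tsn_UX 1 1 X 2).2.2.2] at h
    linear_combination -h
  have a1 : X 3 0 + X 2 1 = 0 := by
    have h := eU1 3 1
    rw [(su4tsn_XU 1 1 X 3).2.1, (su4tsn_UX 1 1 X 1).2.2.2] at h
    linear_combination h
  have a2 : X 0 3 + X 1 2 = 0 := by
    have h := eU1 0 2
    rw [(su4tsn_XU 1 1 X 0).2.2.1, (su4tsn_UX 1 1 X 2).1] at h
    linear_combination -h
  have b1 : t₀ * X 3 0 + s₀ * X 2 1 = 0 := by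
    have h := eU2 3 1
    rw [(su4tsn_XU t₀ s₀ X 3).2.1, (su4tsn_UX t₀ s₀ X 1).2.2.2] at h
    linear_combination h
  have b2 : s₀ * X 0 3 + t₀ * X 1 2 = 0 := by
    have h := eU2 0 2
    rw [(su4tsn_XU t₀ s₀ X 0).2.2.1, (su4tsn_UX t₀ s₀ X 2).1] at h
    linear_combination -h
  have h21 : X 2 1 = 0 := by
    have h : (s₀ - t₀) * X 2 1 = 0 := by linear_combination b1 - t₀ * a1
    rcases mul_eq_zero.1 h with h | h
    · exact absurd h hd
    · exact h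
  have h30 : X 3 0 = 0 := by linear_combination a1 - h21
  have h03 : X 0 3 = 0 := by
    have h : (s₀ - t₀) * X 0 3 = 0 := by linear_combination b2 - t₀ * a2
    rcases mul_eq_zero.1 h with h | h
    · exact absurd h hd
    · exact h
  have h12 : X 1 2 = 0 := by linear_combination a2 - h03
  have h01 : X 0 1 = 0 := by
    have h := eL1 0 0
    rw [(su4tsn_XL 1 1 X 0).1, (su4tsn_LX 1 1 X 0).1] at h
    linear_combination h
  have h31 : X 3 1 = 0 := by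
    have h := eL1 3 0
    rw [(su4tsn_XL 1 1 X 3).1, (su4tsn_LX 1 1 X 0).2.2.2] at h
    linear_combination h
  have h02 : X 0 2 = 0 := by
    have h := eL1 1 2
    rw [(su4tsn_XL 1 1 X 1).2.2.1, (su4tsn_LX 1 1 X 2).2.1] at h
    linear_combination -h
  have h32 : X 3 2 = 0 := by
    have h := eL1 3 3
    rw [(su4tsn_XL 1 1 X 3).2.2.2, (su4tsn_LX 1 1 X 3).2.2.2] at h
    linear_combination -h
  have h22 : X 2 2 = X 0 0 := by
    have h := eS 0 2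
    rw [su4tsn_XS, su4tsn_SX] at h
    exact h.symm
  have h33' : X 3 3 = X 0 0 := h33.trans h22
  refine ⟨X 0 0, ?_⟩
  ext i j
  fin_cases i <;> fin_cases j <;>
    simp [Matrix.smul_apply, Matrix.one_apply, h01, h02, h03, h10, h12, h13, h20, h21, h23, h30,
      h31, h32, h11, h22, h33']

omit [Fintype F] in
theorem su4tsn_irr (t₀ s₀ : F) (hne : s₀ ≠ t₀) (W : Submodule F (Fin 4 → F))
    (hU1 : ∀ x ∈ W, su4tsn_U 1 1 *ᵥ x ∈ W)
    (hU2 : ∀ x ∈ W, su4tsn_U t₀ s₀ *ᵥ x ∈ W)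
    (hL1 : ∀ x ∈ W, su4tsn_L 1 1 *ᵥ x ∈ W)
    (hL2 : ∀ x ∈ W, su4tsn_L t₀ s₀ *ᵥ x ∈ W)
    (hS : ∀ x ∈ W, su4tsn_S *ᵥ x ∈ W) : W = ⊥ ∨ W = ⊤ := by
  have hd : s₀ - t₀ ≠ 0 := sub_ne_zero.2 hne
  have step1 : (![1, 0, 0, 0] : Fin 4 → F) ∈ W → W = ⊤ := by
    intro h0
    have h1 : (![0, 1, 0, 0] : Fin 4 → F) ∈ W := by
      have e : (![0, 1, 0, 0] : Fin 4 → F) =
          su4tsn_L 1 1 *ᵥ ![1, 0, 0, 0] - ![1, 0, 0, 0] := by
        rw [su4tsn_L_mulVec]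
        ext i
        fin_cases i <;> simp
      rw [e]
      exact W.sub_mem (hL1 _ h0) h0
    have h2 : (![0, 0, 1, 0] : Fin 4 → F) ∈ W := by
      have e : (![0, 0, 1, 0] : Fin 4 → F) = su4tsn_S *ᵥ ![1, 0, 0, 0] := by
        rw [su4tsn_S_mulVec]
        ext i
        fin_cases i <;> simp
      rw [e]
      exact hS _ h0
    have h3 : (![0, 0, 0, 1] : Fin 4 → F) ∈ W := by
      have e : (![0, 0, 0, 1] : Fin 4 → F) = su4tsn_S *ᵥ ![0, 1, 0, 0] := by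
        rw [su4tsn_S_mulVec]
        ext i
        fin_cases i <;> simp
      rw [e]
      exact hS _ h1
    rw [eq_top_iff]
    intro x _
    have e : x = x 0 • (![1, 0, 0, 0] : Fin 4 → F) + x 1 • (![0, 1, 0, 0] : Fin 4 → F) +
        x 2 • (![0, 0, 1, 0] : Fin 4 → F) + x 3 • (![0, 0, 0, 1] : Fin 4 → F) := by
      ext i
      fin_cases i <;> simp
    rw [e]
    exact W.add_mem (W.add_mem (W.add_mem (W.smul_mem _ h0) (W.smul_mem _ h1))
      (W.smul_mem _ h2)) (W.smul_mem _ h3)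
  have step2 : ∀ c : F, c ≠ 0 → ((![c, 0, 0, 0] : Fin 4 → F) ∈ W ∨
      (![0, c, 0, 0] : Fin 4 → F) ∈ W ∨ (![0, 0, c, 0] : Fin 4 → F) ∈ W ∨
      (![0, 0, 0, c] : Fin 4 → F) ∈ W) → W = ⊤ := by
    intro c hc h
    have h1 : ∀ a : F, (![0, a, 0, 0] : Fin 4 → F) ∈ W → (![a, 0, 0, 0] : Fin 4 → F) ∈ W := by
      intro a ha
      have e : (![a, 0, 0, 0] : Fin 4 → F) =
          su4tsn_U 1 1 *ᵥ ![0, a, 0, 0] - ![0, a, 0, 0] := by
        rw [su4tsn_U_mulVec]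
        ext i
        fin_cases i <;> simp
      rw [e]
      exact W.sub_mem (hU1 _ ha) ha
    have h2 : ∀ a : F, (![0, 0, a, 0] : Fin 4 → F) ∈ W → (![a, 0, 0, 0] : Fin 4 → F) ∈ W := by
      intro a ha
      have e : (![a, 0, 0, 0] : Fin 4 → F) = su4tsn_S *ᵥ ![0, 0, a, 0] := by
        rw [su4tsn_S_mulVec]
        ext i
        fin_cases i <;> simp
      rw [e]
      exact hS _ ha
    have h3 : ∀ a : F, (![0, 0, 0, a] : Fin 4 → F) ∈ W → (![0, a, 0, 0] : Fin 4 → F) ∈ W := by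
      intro a ha
      have e : (![0, a, 0, 0] : Fin 4 → F) = su4tsn_S *ᵥ ![0, 0, 0, a] := by
        rw [su4tsn_S_mulVec]
        ext i
        fin_cases i <;> simp
      rw [e]
      exact hS _ ha
    have h0 : (![c, 0, 0, 0] : Fin 4 → F) ∈ W := by
      rcases h with h | h | h | h
      · exact h
      · exact h1 c h
      · exact h2 c h
      · exact h1 c (h3 c h)
    apply step1
    have e : (![1, 0, 0, 0] : Fin 4 → F) = c⁻¹ • (![c, 0, 0, 0] : Fin 4 → F) := by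
      ext i
      fin_cases i <;> simp [hc]
    rw [e]
    exact W.smul_mem _ h0
  by_cases hW : W = ⊥
  · exact Or.inl hW
  right
  obtain ⟨w, hw, hw0⟩ := (Submodule.ne_bot_iff W).1 hW
  have hUa : (![w 1, 0, 0, -w 2] : Fin 4 → F) ∈ W := by
    have e : (![w 1, 0, 0, -w 2] : Fin 4 → F) = su4tsn_U 1 1 *ᵥ w - w := by
      rw [su4tsn_U_mulVec]
      ext i
      fin_cases i <;> simp
    rw [e]
    exact W.sub_mem (hU1 _ hw) hw
  have hUb : (![t₀ * w 1, 0, 0, -(s₀ * w 2)] : Fin 4 → F) ∈ W := by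
    have e : (![t₀ * w 1, 0, 0, -(s₀ * w 2)] : Fin 4 → F) = su4tsn_U t₀ s₀ *ᵥ w - w := by
      rw [su4tsn_U_mulVec]
      ext i
      fin_cases i <;> simp
    rw [e]
    exact W.sub_mem (hU2 _ hw) hw
  have hLa : (![0, w 0, -w 3, 0] : Fin 4 → F) ∈ W := by
    have e : (![0, w 0, -w 3, 0] : Fin 4 → F) = su4tsn_L 1 1 *ᵥ w - w := by
      rw [su4tsn_L_mulVec]
      ext i
      fin_cases i <;> simp
    rw [e]
    exact W.sub_mem (hL1 _ hw) hw
  have hLb : (![0, t₀ * w 0, -(s₀ * w 3), 0] : Fin 4 → F) ∈ W := by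
    have e : (![0, t₀ * w 0, -(s₀ * w 3), 0] : Fin 4 → F) = su4tsn_L t₀ s₀ *ᵥ w - w := by
      rw [su4tsn_L_mulVec]
      ext i
      fin_cases i <;> simp
    rw [e]
    exact W.sub_mem (hL2 _ hw) hw
  have c1 : (![(s₀ - t₀) * w 1, 0, 0, 0] : Fin 4 → F) ∈ W := by
    have e : (![(s₀ - t₀) * w 1, 0, 0, 0] : Fin 4 → F) =
        s₀ • (![w 1, 0, 0, -w 2] : Fin 4 → F) - ![t₀ * w 1, 0, 0, -(s₀ * w 2)] := by
      ext i
      fin_cases i <;> simp <;> ring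
    rw [e]
    exact W.sub_mem (W.smul_mem _ hUa) hUb
  have c2 : (![0, 0, 0, (s₀ - t₀) * w 2] : Fin 4 → F) ∈ W := by
    have e : (![0, 0, 0, (s₀ - t₀) * w 2] : Fin 4 → F) =
        t₀ • (![w 1, 0, 0, -w 2] : Fin 4 → F) - ![t₀ * w 1, 0, 0, -(s₀ * w 2)] := by
      ext i
      fin_cases i <;> simp <;> ring
    rw [e]
    exact W.sub_mem (W.smul_mem _ hUa) hUb
  have c0 : (![0, (s₀ - t₀) * w 0, 0, 0] : Fin 4 → F) ∈ W := by
    have e : (![0, (s₀ - t₀) * w 0, 0, 0] : Fin 4 → F) =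
        s₀ • (![0, w 0, -w 3, 0] : Fin 4 → F) - ![0, t₀ * w 0, -(s₀ * w 3), 0] := by
      ext i
      fin_cases i <;> simp <;> ring
    rw [e]
    exact W.sub_mem (W.smul_mem _ hLa) hLb
  have c3 : (![0, 0, (s₀ - t₀) * w 3, 0] : Fin 4 → F) ∈ W := by
    have e : (![0, 0, (s₀ - t₀) * w 3, 0] : Fin 4 → F) =
        t₀ • (![0, w 0, -w 3, 0] : Fin 4 → F) - ![0, t₀ * w 0, -(s₀ * w 3), 0] := by
      ext i
      fin_cases i <;> simp <;> ring
    rw [e]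
    exact W.sub_mem (W.smul_mem _ hLa) hLb
  by_cases w1 : w 1 = 0
  · by_cases w2 : w 2 = 0
    · by_cases w0' : w 0 = 0
      · by_cases w3 : w 3 = 0
        · exfalso
          apply hw0
          ext i
          fin_cases i <;> simp [w0', w1, w2, w3]
        · exact step2 _ (mul_ne_zero hd w3) (Or.inr (Or.inr (Or.inl c3)))
      · exact step2 _ (mul_ne_zero hd w0') (Or.inr (Or.inl c0))
    · exact step2 _ (mul_ne_zero hd w2) (Or.inr (Or.inr (Or.inr c2)))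
  · exact step2 _ (mul_ne_zero hd w1) (Or.inl c1)

omit [Fintype F] in
theorem su4tsn_b_nondeg (a : Fin 4 → F) (ha : a ≠ 0) : ∃ c : Fin 4 → F, su4tsn_b a c ≠ 0 := by
  by_contra hcon
  push Not at hcon
  apply ha
  have k0 := hcon ![0, 1, 0, 0]
  have k1 := hcon ![1, 0, 0, 0]
  have k2 := hcon ![0, 0, 0, 1]
  have k3 := hcon ![0, 0, 1, 0]
  rw [su4tsn_b] at k0 k1 k2 k3
  simp at k0 k1 k2 k3
  ext i
  fin_cases i
  exacts [k0, k1, k2, k3]

omit [Fintype F] in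
theorem su4tsn_b_anti (a c : Fin 4 → F) : su4tsn_b c a = -su4tsn_b a c := by
  unfold su4tsn_b
  ring

/-! ### The adapted basis -/

omit [Fintype F] in
theorem su4tsn_hadd_l (x y z : Fin 4 → F) :
    Cfsg.hermForm 4 F q (x + y) z = Cfsg.hermForm 4 F q x z + Cfsg.hermForm 4 F q y z := by
  simp only [Cfsg.hermForm, Pi.add_apply, add_mul, Finset.sum_add_distrib]

omit [Fintype F] in
theorem su4tsn_hsmul_l (c : F) (x z : Fin 4 → F) :
    Cfsg.hermForm 4 F q (c • x) z = c * Cfsg.hermForm 4 F q x z := by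
  simp only [Cfsg.hermForm, Pi.smul_apply, smul_eq_mul, mul_assoc, Finset.mul_sum]

theorem su4tsn_hadd_r (hF : Fintype.card F = q ^ 2) (z x y : Fin 4 → F) :
    Cfsg.hermForm 4 F q z (x + y) = Cfsg.hermForm 4 F q z x + Cfsg.hermForm 4 F q z y := by
  simp only [Cfsg.hermForm, Pi.add_apply, suqtfs_add_pow hF, mul_add, Finset.sum_add_distrib]

omit [Fintype F] in
theorem su4tsn_hsmul_r (c : F) (z x : Fin 4 → F) :
    Cfsg.hermForm 4 F q z (c • x) = c ^ q * Cfsg.hermForm 4 F q z x := by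
  simp only [Cfsg.hermForm, Pi.smul_apply, smul_eq_mul, mul_pow, Finset.mul_sum]
  exact Finset.sum_congr rfl (fun i _ => by ring)

theorem su4tsn_hsymm (hF : Fintype.card F = q ^ 2) (x y : Fin 4 → F) :
    Cfsg.hermForm 4 F q y x = (Cfsg.hermForm 4 F q x y) ^ q := by
  simp only [Cfsg.hermForm]
  rw [suqtfs_sum_pow hF]
  refine Finset.sum_congr rfl (fun i _ => ?_)
  rw [mul_pow, suqtfs_frob2 hF]
  ring

theorem su4tsn_hnd (hF : Fintype.card F = q ^ 2) (x : Fin 4 → F)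
    (hx : ∀ y, Cfsg.hermForm 4 F q x y = 0) : x = 0 := by
  have hq0 : q ≠ 0 := (suqtfs_q_pos hF).ne'
  ext i
  have h1 := hx (Pi.single i 1)
  unfold Cfsg.hermForm at h1
  rw [Finset.sum_eq_single i] at h1
  · simpa using h1
  · intro j _ hji
    rw [Pi.single_eq_of_ne hji, zero_pow hq0, mul_zero]
  · intro hi
    exact absurd (Finset.mem_univ i) hi

theorem su4tsn_frame_vecs (hF : Fintype.card F = q ^ 2) (D : Fin 2 → Submodule F (Fin 4 → F))
    (hD : IsMDecomposition 2 D)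
    (hts : ∀ i, IsTotallySingularFor (Cfsg.hermForm 4 F q) (D i)) :
    ∃ u0 u1 v0 v1 : Fin 4 → F, u0 ∈ D 0 ∧ u1 ∈ D 0 ∧ v0 ∈ D 1 ∧ v1 ∈ D 1 ∧
      Cfsg.hermForm 4 F q v0 u0 = 1 ∧ Cfsg.hermForm 4 F q v0 u1 = 0 ∧
      Cfsg.hermForm 4 F q v1 u0 = 0 ∧ Cfsg.hermForm 4 F q v1 u1 = 1 := by
  have hsup : ∀ x : Fin 4 → F, ∃ a ∈ D 0, ∃ b ∈ D 1, a + b = x := by
    intro x
    have hx : x ∈ iSup D := by
      rw [hD.iSup_eq_top]
      exact Submodule.mem_top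
    have h1 : iSup D ≤ D 0 ⊔ D 1 := iSup_le (Fin.forall_fin_two.2 ⟨le_sup_left, le_sup_right⟩)
    exact Submodule.mem_sup.1 (h1 hx)
  let bs := Module.finBasisOfFinrankEq F (D 0) (hD.finrank_eq 0)
  have hspan : ∀ d ∈ D 0, ∃ a b : F, d = a • (bs 0 : Fin 4 → F) + b • (bs 1 : Fin 4 → F) := by
    intro d hd
    have h1 := bs.sum_repr ⟨d, hd⟩
    rw [Fin.sum_univ_two] at h1
    refine ⟨bs.repr ⟨d, hd⟩ 0, bs.repr ⟨d, hd⟩ 1, ?_⟩
    have h2 := congrArg Subtype.val h1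
    simpa using h2.symm
  obtain ⟨u0, hu0, u1, hu1, hspan'⟩ : ∃ u0 ∈ D 0, ∃ u1 ∈ D 0,
      ∀ d ∈ D 0, ∃ a b : F, d = a • u0 + b • u1 :=
    ⟨bs 0, (bs 0).2, bs 1, (bs 1).2, hspan⟩
  clear hspan
  clear bs
  let φ : D 1 →ₗ[F] (Fin 2 → F) :=
    { toFun := fun v => ![Cfsg.hermForm 4 F q v.1 u0, Cfsg.hermForm 4 F q v.1 u1]
      map_add' := by
        intro a b
        ext i
        fin_cases i <;> simp [su4tsn_hadd_l]
      map_smul' := by
        intro c a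
        ext i
        fin_cases i <;> simp [su4tsn_hsmul_l] }
  have hφ : ∀ v : D 1, φ v = ![Cfsg.hermForm 4 F q v.1 u0, Cfsg.hermForm 4 F q v.1 u1] :=
    fun v => rfl
  have hinj : Function.Injective φ := by
    rw [injective_iff_map_eq_zero]
    intro v hv
    rw [hφ] at hv
    have e0 : Cfsg.hermForm 4 F q v.1 u0 = 0 := by
      have := congrFun hv 0
      simpa using this
    have e1 : Cfsg.hermForm 4 F q v.1 u1 = 0 := by
      have := congrFun hv 1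
      simpa using this
    have hv0 : v.1 = 0 := by
      apply su4tsn_hnd hF
      intro y
      obtain ⟨a, ha, b, hb, rfl⟩ := hsup y
      obtain ⟨α, β, rfl⟩ := hspan' a ha
      rw [su4tsn_hadd_r hF, su4tsn_hadd_r hF, su4tsn_hsmul_r, su4tsn_hsmul_r, e0, e1,
        hts 1 v.1 v.2 b hb]
      ring
    exact Subtype.ext hv0
  have hsurj : Function.Surjective φ := by
    have hfr : Module.finrank F (D 1) = Module.finrank F (Fin 2 → F) := by
      rw [hD.finrank_eq 1, Module.finrank_fin_fun]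
    exact (LinearMap.injective_iff_surjective_of_finrank_eq_finrank hfr).1 hinj
  obtain ⟨v0, hv0⟩ := hsurj ![1, 0]
  obtain ⟨v1, hv1⟩ := hsurj ![0, 1]
  rw [hφ] at hv0 hv1
  refine ⟨u0, u1, v0.1, v1.1, hu0, hu1, v0.2, v1.2, ?_, ?_, ?_, ?_⟩
  · have := congrFun hv0 0
    simpa using this
  · have := congrFun hv0 1
    simpa using this
  · have := congrFun hv1 0
    simpa using this
  · have := congrFun hv1 1
    simpa using this

theorem su4tsn_frame (hF : Fintype.card F = q ^ 2) (D : Fin 2 → Submodule F (Fin 4 → F))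
    (hD : IsMDecomposition 2 D)
    (hts : ∀ i, IsTotallySingularFor (Cfsg.hermForm 4 F q) (D i)) :
    ∃ P : GL (Fin 4) F,
      (∀ x y, Cfsg.hermForm 4 F q (P.1 *ᵥ x) (P.1 *ᵥ y) = su4tsn_h q x y) ∧
      (∀ x, P.1 *ᵥ x ∈ D 0 ↔ x 2 = 0 ∧ x 3 = 0) ∧
      (∀ x, P.1 *ᵥ x ∈ D 1 ↔ x 0 = 0 ∧ x 1 = 0) := by
  have hq0 : q ≠ 0 := (suqtfs_q_pos hF).ne'
  obtain ⟨u0, u1, v0, v1, hu0, hu1, hv0, hv1, g00, g01, g10, g11⟩ :=
    su4tsn_frame_vecs hF D hD hts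
  have t00 : Cfsg.hermForm 4 F q u0 u0 = 0 := hts 0 u0 hu0 u0 hu0
  have t01 : Cfsg.hermForm 4 F q u0 u1 = 0 := hts 0 u0 hu0 u1 hu1
  have t10 : Cfsg.hermForm 4 F q u1 u0 = 0 := hts 0 u1 hu1 u0 hu0
  have t11 : Cfsg.hermForm 4 F q u1 u1 = 0 := hts 0 u1 hu1 u1 hu1
  have r00 : Cfsg.hermForm 4 F q v0 v0 = 0 := hts 1 v0 hv0 v0 hv0
  have r01 : Cfsg.hermForm 4 F q v0 v1 = 0 := hts 1 v0 hv0 v1 hv1
  have r10 : Cfsg.hermForm 4 F q v1 v0 = 0 := hts 1 v1 hv1 v0 hv0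
  have r11 : Cfsg.hermForm 4 F q v1 v1 = 0 := hts 1 v1 hv1 v1 hv1
  have s00 : Cfsg.hermForm 4 F q u0 v0 = 1 := by rw [su4tsn_hsymm hF v0 u0, g00, one_pow]
  have s10 : Cfsg.hermForm 4 F q u1 v0 = 0 := by rw [su4tsn_hsymm hF v0 u1, g01, zero_pow hq0]
  have s01 : Cfsg.hermForm 4 F q u0 v1 = 0 := by rw [su4tsn_hsymm hF v1 u0, g10, zero_pow hq0]
  have s11 : Cfsg.hermForm 4 F q u1 v1 = 1 := by rw [su4tsn_hsymm hF v1 u1, g11, one_pow]
  obtain ⟨Pm, hPm⟩ : ∃ Pm : Matrix (Fin 4) (Fin 4) F, ∀ x : Fin 4 → F,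
      Pm *ᵥ x = x 0 • u0 + x 1 • u1 + x 2 • v0 + x 3 • v1 := by
    refine ⟨Matrix.of (fun i j => (![u0, u1, v0, v1] : Fin 4 → Fin 4 → F) j i), fun x => ?_⟩
    ext i
    simp [Matrix.mulVec, dotProduct, Fin.sum_univ_four]
    ring
  have hgram : ∀ x y, Cfsg.hermForm 4 F q (Pm *ᵥ x) (Pm *ᵥ y) = su4tsn_h q x y := by
    intro x y
    rw [hPm x, hPm y]
    simp only [su4tsn_hadd_l, su4tsn_hsmul_l, su4tsn_hadd_r hF, su4tsn_hsmul_r, t00, t01, t10,
      t11, r00, r01, r10, r11, s00, s01, s10, s11, g00, g01, g10, g11, su4tsn_h]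
    ring
  have hker : ∀ x : Fin 4 → F, Pm *ᵥ x = 0 → x = 0 := by
    intro x hx
    have key : ∀ y, su4tsn_h q x y = 0 := by
      intro y
      rw [← hgram, hx]
      simp [Cfsg.hermForm]
    have k0 := key ![0, 0, 1, 0]
    have k1 := key ![0, 0, 0, 1]
    have k2 := key ![1, 0, 0, 0]
    have k3 := key ![0, 1, 0, 0]
    rw [su4tsn_h] at k0 k1 k2 k3
    simp [zero_pow hq0] at k0 k1 k2 k3
    ext i
    fin_cases i
    exacts [k0, k1, k2, k3]
  have hinj : Function.Injective Pm.mulVec := by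
    intro x x' hxx
    have h0 : Pm *ᵥ (x - x') = 0 := by
      rw [Matrix.mulVec_sub]
      exact sub_eq_zero.2 hxx
    exact sub_eq_zero.1 (hker _ h0)
  obtain ⟨P, hP⟩ := Matrix.mulVec_injective_iff_isUnit.1 hinj
  refine ⟨P, ?_, ?_, ?_⟩
  · intro x y
    rw [hP]
    exact hgram x y
  · intro x
    rw [hP]
    constructor
    · intro hx
      have a0 := hts 0 _ hx u0 hu0
      have a1 := hts 0 _ hx u1 hu1
      rw [hPm x] at a0 a1
      simp only [su4tsn_hadd_l, su4tsn_hsmul_l, t00, t01, t10, t11, g00, g01, g10, g11] at a0 a1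
      exact ⟨by linear_combination a0, by linear_combination a1⟩
    · rintro ⟨h2, h3⟩
      rw [hPm x, h2, h3, zero_smul, zero_smul, add_zero, add_zero]
      exact (D 0).add_mem ((D 0).smul_mem _ hu0) ((D 0).smul_mem _ hu1)
  · intro x
    rw [hP]
    constructor
    · intro hx
      have a0 := hts 1 _ hx v0 hv0
      have a1 := hts 1 _ hx v1 hv1
      rw [hPm x] at a0 a1
      simp only [su4tsn_hadd_l, su4tsn_hsmul_l, r00, r01, r10, r11, s00, s01, s10, s11]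
        at a0 a1
      exact ⟨by linear_combination a0, by linear_combination a1⟩
    · rintro ⟨h0, h1⟩
      rw [hPm x, h0, h1, zero_smul, zero_smul, zero_add, zero_add]
      exact (D 1).add_mem ((D 1).smul_mem _ hv0) ((D 1).smul_mem _ hv1)

/-! ### The main statement -/

omit [Fintype F] in
theorem su4tsn_b_bilin (A : Matrix (Fin 4) (Fin 4) F) :
    IsBilinearForm (fun u v : Fin 4 → F => su4tsn_b (A *ᵥ u) (A *ᵥ v)) := by
  constructor <;> intros <;>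
    simp only [Matrix.mulVec_add, Matrix.mulVec_smul, su4tsn_b, Pi.add_apply, Pi.smul_apply,
      smul_eq_mul] <;> ring

/-- TSN: for `q ≤ 3` the full stabiliser in `SU_4(q)` of a decomposition into two totally
isotropic planes has an absolutely irreducible normal subgroup fixing a non-degenerate bilinear
form. -/
theorem TSN (hF : Fintype.card F = q ^ 2) (hq : q ≤ 3) (D : Fin 2 → Submodule F (Fin 4 → F))
    (hD : IsMDecomposition 2 D)
    (hts : ∀ i, IsTotallySingularFor (Cfsg.hermForm 4 F q) (D i))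
    (H : Subgroup (GL (Fin 4) F))
    (hH : H = decompositionStabilizer D ⊓ (Cfsg.GU 4 F q ⊓ specialLinear (Fin 4) F)) :
    ∃ (N : Subgroup (GL (Fin 4) F)) (b : (Fin 4 → F) → (Fin 4 → F) → F), N ≤ H ∧ Nrm H N ∧
      ActsAbsolutelyIrreducibly (matrixSet N) ∧ IsBilinearForm b ∧ IsNondegenerateForm b ∧
      FixesForm (matrixSet N) b := by
  obtain ⟨P, hPh, hP0, hP1⟩ := su4tsn_frame hF D hD hts
  have hPi : (P⁻¹).1 * P.1 = 1 := by rw [← Units.val_mul, inv_mul_cancel, Units.val_one]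
  have hPi' : P.1 * (P⁻¹).1 = 1 := by rw [← Units.val_mul, mul_inv_cancel, Units.val_one]
  have hPP : ∀ x : Fin 4 → F, P.1 *ᵥ ((P⁻¹).1 *ᵥ x) = x := by
    intro x
    rw [Matrix.mulVec_mulVec, hPi', Matrix.one_mulVec]
  have hPP' : ∀ x : Fin 4 → F, (P⁻¹).1 *ᵥ (P.1 *ᵥ x) = x := by
    intro x
    rw [Matrix.mulVec_mulVec, hPi, Matrix.one_mulVec]
  have h01 : ∀ i : Fin 2, i = 0 ∨ i = 1 := by decide
  have hHmem : ∀ g : GL (Fin 4) F, g ∈ H ↔ g ∈ decompositionStabilizer D ∧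
      (∀ u v, Cfsg.hermForm 4 F q (g.1 *ᵥ u) (g.1 *ᵥ v) = Cfsg.hermForm 4 F q u v) ∧
      g.1.det = 1 := by
    intro g
    rw [hH, Subgroup.mem_inf, Subgroup.mem_inf,
      Cfsg.Agent.Lib.Helper71.SLP.mem_specialLinear_iff]
    exact Iff.rfl
  obtain ⟨Ib, hIb⟩ : ∃ Ib : Subgroup (GL (Fin 4) F), ∀ g : GL (Fin 4) F, g ∈ Ib ↔
      ∀ u v, su4tsn_b ((P⁻¹).1 *ᵥ (g.1 *ᵥ u)) ((P⁻¹).1 *ᵥ (g.1 *ᵥ v)) =
        su4tsn_b ((P⁻¹).1 *ᵥ u) ((P⁻¹).1 *ᵥ v) :=
    ⟨Cfsg.preserving (Units.coeHom (Matrix (Fin 4) (Fin 4) F))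
      (fun u v => su4tsn_b ((P⁻¹).1 *ᵥ u) ((P⁻¹).1 *ᵥ v)), fun g => Iff.rfl⟩
  have hmem : ∀ g ∈ H ⊓ Ib, g.1 ∈ matrixSet (H ⊓ Ib) := fun g hg => Set.mem_image_of_mem _ hg
  have hstab : ∀ g ∈ decompositionStabilizer D,
      ((∀ x ∈ D 0, g.1 *ᵥ x ∈ D 0) ∧ (∀ x ∈ D 1, g.1 *ᵥ x ∈ D 1)) ∨
      ((∀ x ∈ D 0, g.1 *ᵥ x ∈ D 1) ∧ (∀ x ∈ D 1, g.1 *ᵥ x ∈ D 0)) := by
    intro g hg
    obtain ⟨σ, hσ⟩ := hg
    have hmap : ∀ i, ∀ x ∈ D i, g.1 *ᵥ x ∈ D (σ i) := by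
      intro i x hx
      have h1 : Matrix.toLin' g.1 x ∈ (D i).map (Matrix.toLin' g.1) :=
        Submodule.mem_map_of_mem hx
      rw [hσ i, Matrix.toLin'_apply] at h1
      exact h1
    rcases h01 (σ 0) with h | h
    · have h' : σ 1 = 1 := by
        rcases h01 (σ 1) with h' | h'
        · exact absurd (σ.injective (h'.trans h.symm)) (by decide)
        · exact h'
      left
      refine ⟨fun x hx => ?_, fun x hx => ?_⟩
      · have h2 := hmap 0 x hx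
        rwa [h] at h2
      · have h2 := hmap 1 x hx
        rwa [h'] at h2
    · have h' : σ 1 = 0 := by
        rcases h01 (σ 1) with h' | h'
        · exact h'
        · exact absurd (σ.injective (h'.trans h.symm)) (by decide)
      right
      refine ⟨fun x hx => ?_, fun x hx => ?_⟩
      · have h2 := hmap 0 x hx
        rwa [h] at h2
      · have h2 := hmap 1 x hx
        rwa [h'] at h2
  have hmodel : ∀ g ∈ H,
      (su4tsn_Dg ((P⁻¹).1 * g.1 * P.1) ∨ su4tsn_Ad ((P⁻¹).1 * g.1 * P.1)) ∧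
      (∀ x y, su4tsn_h q (((P⁻¹).1 * g.1 * P.1) *ᵥ x) (((P⁻¹).1 * g.1 * P.1) *ᵥ y) =
        su4tsn_h q x y) ∧ ((P⁻¹).1 * g.1 * P.1).det = 1 := by
    intro g hg
    obtain ⟨hgD, hgU, hgdet⟩ := (hHmem g).1 hg
    have hMx : ∀ x : Fin 4 → F,
        ((P⁻¹).1 * g.1 * P.1) *ᵥ x = (P⁻¹).1 *ᵥ (g.1 *ᵥ (P.1 *ᵥ x)) := by
      intro x
      rw [← Matrix.mulVec_mulVec, ← Matrix.mulVec_mulVec]
    have hPMx : ∀ x : Fin 4 → F,
        P.1 *ᵥ (((P⁻¹).1 * g.1 * P.1) *ᵥ x) = g.1 *ᵥ (P.1 *ᵥ x) := by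
      intro x
      rw [hMx, hPP]
    refine ⟨?_, ?_, ?_⟩
    · rcases hstab g hgD with ⟨h0, h1⟩ | ⟨h0, h1⟩
      · left
        constructor
        · intro x h2 h3
          have hx : P.1 *ᵥ x ∈ D 0 := (hP0 x).2 ⟨h2, h3⟩
          have h4 := h0 _ hx
          rw [← hPMx] at h4
          exact (hP0 _).1 h4
        · intro x h2 h3
          have hx : P.1 *ᵥ x ∈ D 1 := (hP1 x).2 ⟨h2, h3⟩
          have h4 := h1 _ hx
          rw [← hPMx] at h4
          exact (hP1 _).1 h4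
      · right
        constructor
        · intro x h2 h3
          have hx : P.1 *ᵥ x ∈ D 0 := (hP0 x).2 ⟨h2, h3⟩
          have h4 := h0 _ hx
          rw [← hPMx] at h4
          exact (hP1 _).1 h4
        · intro x h2 h3
          have hx : P.1 *ᵥ x ∈ D 1 := (hP1 x).2 ⟨h2, h3⟩
          have h4 := h1 _ hx
          rw [← hPMx] at h4
          exact (hP0 _).1 h4
    · intro x y
      rw [← hPh, hPMx, hPMx, hgU, hPh]
    · rw [Matrix.det_mul, Matrix.det_mul, hgdet, mul_one, ← Matrix.det_mul, hPi, Matrix.det_one]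
  have hsim : ∀ g ∈ H, ∃ l : F, ∀ u v : Fin 4 → F,
      su4tsn_b ((P⁻¹).1 *ᵥ (g.1 *ᵥ u)) ((P⁻¹).1 *ᵥ (g.1 *ᵥ v)) =
        l * su4tsn_b ((P⁻¹).1 *ᵥ u) ((P⁻¹).1 *ᵥ v) := by
    intro g hg
    obtain ⟨hpat, hh, hdet⟩ := hmodel g hg
    obtain ⟨l, hl⟩ := su4tsn_sim_all hF hq _ hpat hh hdet
    refine ⟨l, fun u v => ?_⟩
    have h1 := hl ((P⁻¹).1 *ᵥ u) ((P⁻¹).1 *ᵥ v)
    have hMx : ∀ x : Fin 4 → F,
        ((P⁻¹).1 * g.1 * P.1) *ᵥ ((P⁻¹).1 *ᵥ x) = (P⁻¹).1 *ᵥ (g.1 *ᵥ x) := by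
      intro x
      rw [← Matrix.mulVec_mulVec, ← Matrix.mulVec_mulVec, hPP]
    rw [hMx, hMx] at h1
    exact h1
  have hmk : ∀ M : Matrix (Fin 4) (Fin 4) F, (su4tsn_Dg M ∨ su4tsn_Ad M) →
      (∀ x y, su4tsn_h q (M *ᵥ x) (M *ᵥ y) = su4tsn_h q x y) → M.det = 1 →
      (∀ x y, su4tsn_b (M *ᵥ x) (M *ᵥ y) = su4tsn_b x y) →
      ∃ g ∈ H ⊓ Ib, g.1 = P.1 * M * (P⁻¹).1 := by
    intro M hpat hMh hMdet hMb
    obtain ⟨Mg, hMg⟩ : IsUnit M :=
      (Matrix.isUnit_iff_isUnit_det M).2 (by rw [hMdet]; exact isUnit_one)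
    have hgv : (P * Mg * P⁻¹).1 = P.1 * M * (P⁻¹).1 := by
      rw [Units.val_mul, Units.val_mul, hMg]
    have hgx : ∀ x : Fin 4 → F,
        (P * Mg * P⁻¹).1 *ᵥ x = P.1 *ᵥ (M *ᵥ ((P⁻¹).1 *ᵥ x)) := by
      intro x
      rw [hgv, ← Matrix.mulVec_mulVec, ← Matrix.mulVec_mulVec]
    refine ⟨P * Mg * P⁻¹, Subgroup.mem_inf.2 ⟨?_, ?_⟩, hgv⟩
    · rw [hHmem]
      refine ⟨?_, ?_, ?_⟩
      · have hginj : Function.Injective (Matrix.toLin' (P * Mg * P⁻¹).1) := by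
          intro x y hxy
          rw [Matrix.toLin'_apply, Matrix.toLin'_apply] at hxy
          have h1 := congrArg (fun z => ((P * Mg * P⁻¹)⁻¹).1 *ᵥ z) hxy
          simp only [Matrix.mulVec_mulVec, ← Units.val_mul, inv_mul_cancel, Units.val_one,
            Matrix.one_mulVec] at h1
          exact h1
        have hmapeq : ∀ i j : Fin 2, (∀ x ∈ D i, (P * Mg * P⁻¹).1 *ᵥ x ∈ D j) →
            (D i).map (Matrix.toLin' (P * Mg * P⁻¹).1) = D j := by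
          intro i j hij
          apply Submodule.eq_of_le_of_finrank_eq
          · rw [Submodule.map_le_iff_le_comap]
            intro x hx
            rw [Submodule.mem_comap, Matrix.toLin'_apply]
            exact hij x hx
          · rw [← LinearEquiv.finrank_eq (Submodule.equivMapOfInjective _ hginj (D i)),
              hD.finrank_eq i, hD.finrank_eq j]
        have hin0 : ∀ x ∈ D 0, ((P⁻¹).1 *ᵥ x) 2 = 0 ∧ ((P⁻¹).1 *ᵥ x) 3 = 0 := by
          intro x hx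
          apply (hP0 _).1
          rw [hPP]
          exact hx
        have hin1 : ∀ x ∈ D 1, ((P⁻¹).1 *ᵥ x) 0 = 0 ∧ ((P⁻¹).1 *ᵥ x) 1 = 0 := by
          intro x hx
          apply (hP1 _).1
          rw [hPP]
          exact hx
        rcases hpat with hpat | hpat
        · refine Exists.intro 1 (fun i => ?_)
          rw [Equiv.Perm.one_apply]
          rcases h01 i with rfl | rfl
          · apply hmapeq
            intro x hx
            rw [hgx]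
            exact (hP0 _).2 (hpat.1 _ (hin0 x hx).1 (hin0 x hx).2)
          · apply hmapeq
            intro x hx
            rw [hgx]
            exact (hP1 _).2 (hpat.2 _ (hin1 x hx).1 (hin1 x hx).2)
        · refine Exists.intro (Equiv.swap 0 1) (fun i => ?_)
          rcases h01 i with rfl | rfl
          · rw [Equiv.swap_apply_left]
            apply hmapeq
            intro x hx
            rw [hgx]
            exact (hP1 _).2 (hpat.1 _ (hin0 x hx).1 (hin0 x hx).2)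
          · rw [Equiv.swap_apply_right]
            apply hmapeq
            intro x hx
            rw [hgx]
            exact (hP0 _).2 (hpat.2 _ (hin1 x hx).1 (hin1 x hx).2)
      · intro u v
        rw [hgx, hgx, hPh, hMh, ← hPh, hPP, hPP]
      · rw [hgv, Matrix.det_mul, Matrix.det_mul, hMdet, mul_one, ← Matrix.det_mul, hPi',
          Matrix.det_one]
    · rw [hIb]
      intro u v
      rw [hgx, hgx, hPP', hPP', hMb]
  refine ⟨H ⊓ Ib, fun u v => su4tsn_b ((P⁻¹).1 *ᵥ u) ((P⁻¹).1 *ᵥ v), inf_le_left, ?_, ?_,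
    su4tsn_b_bilin _, ?_, ?_⟩
  · -- normality
    intro h hh x hx
    refine Subgroup.mem_inf.2
      ⟨H.mul_mem (H.mul_mem hh (Subgroup.mem_inf.1 hx).1) (H.inv_mem hh), ?_⟩
    rw [hIb]
    intro u v
    obtain ⟨l, hl⟩ := hsim h hh
    have hxb := (hIb x).1 (Subgroup.mem_inf.1 hx).2
    have e : ∀ w : Fin 4 → F,
        (h * x * h⁻¹).1 *ᵥ w = h.1 *ᵥ (x.1 *ᵥ ((h⁻¹).1 *ᵥ w)) := by
      intro w
      rw [Units.val_mul, Units.val_mul, ← Matrix.mulVec_mulVec, ← Matrix.mulVec_mulVec]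
    have e' : ∀ w : Fin 4 → F, h.1 *ᵥ ((h⁻¹).1 *ᵥ w) = w := by
      intro w
      rw [Matrix.mulVec_mulVec, ← Units.val_mul, mul_inv_cancel, Units.val_one,
        Matrix.one_mulVec]
    rw [e, e, hl, hxb]
    have h2 := hl ((h⁻¹).1 *ᵥ u) ((h⁻¹).1 *ᵥ v)
    rw [e', e'] at h2
    exact h2.symm
  · -- absolute irreducibility
    obtain ⟨ν, hν⟩ := Cfsg.Agent.Lib.Helper60.SUQTF.tf_exists_moved hF
    obtain ⟨gU1, hgU1N, hgU1⟩ := hmk (su4tsn_U 1 1) (Or.inl (su4tsn_U_Dg 1 1))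
      (su4tsn_U_h hF 1 1 (one_pow q).symm) (su4tsn_U_det 1 1) (su4tsn_U_b 1 1)
    obtain ⟨gU2, hgU2N, hgU2⟩ := hmk (su4tsn_U ν (ν ^ q)) (Or.inl (su4tsn_U_Dg _ _))
      (su4tsn_U_h hF ν (ν ^ q) rfl) (su4tsn_U_det _ _) (su4tsn_U_b _ _)
    obtain ⟨gL1, hgL1N, hgL1⟩ := hmk (su4tsn_L 1 1) (Or.inl (su4tsn_L_Dg 1 1))
      (su4tsn_L_h hF 1 1 (one_pow q).symm) (su4tsn_L_det 1 1) (su4tsn_L_b 1 1)
    obtain ⟨gL2, hgL2N, hgL2⟩ := hmk (su4tsn_L ν (ν ^ q)) (Or.inl (su4tsn_L_Dg _ _))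
      (su4tsn_L_h hF ν (ν ^ q) rfl) (su4tsn_L_det _ _) (su4tsn_L_b _ _)
    obtain ⟨gS, hgSN, hgS⟩ := hmk su4tsn_S (Or.inr su4tsn_S_Ad) su4tsn_S_h su4tsn_S_det
      su4tsn_S_b
    constructor
    · intro W hW
      have hWg : ∀ g ∈ H ⊓ Ib, ∀ y ∈ W, g.1 *ᵥ y ∈ W := by
        intro g hg y hy
        have h1 := hW g.1 (hmem g hg) (Submodule.mem_map_of_mem hy)
        rw [Matrix.toLin'_apply] at h1
        exact h1
      have hWM : ∀ g ∈ H ⊓ Ib, ∀ M : Matrix (Fin 4) (Fin 4) F, g.1 = P.1 * M * (P⁻¹).1 →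
          ∀ x ∈ W.comap (Matrix.toLin' P.1), M *ᵥ x ∈ W.comap (Matrix.toLin' P.1) := by
        intro g hg M hgM x hx
        rw [Submodule.mem_comap, Matrix.toLin'_apply] at hx ⊢
        have h1 := hWg g hg _ hx
        rw [hgM, ← Matrix.mulVec_mulVec, ← Matrix.mulVec_mulVec, hPP'] at h1
        exact h1
      rcases su4tsn_irr ν (ν ^ q) hν (W.comap (Matrix.toLin' P.1)) (hWM gU1 hgU1N _ hgU1)
        (hWM gU2 hgU2N _ hgU2) (hWM gL1 hgL1N _ hgL1) (hWM gL2 hgL2N _ hgL2)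
        (hWM gS hgSN _ hgS) with hbot | htop
      · left
        rw [eq_bot_iff]
        intro w hw
        have h1 : (P⁻¹).1 *ᵥ w ∈ W.comap (Matrix.toLin' P.1) := by
          rw [Submodule.mem_comap, Matrix.toLin'_apply, hPP]
          exact hw
        rw [hbot, Submodule.mem_bot] at h1
        have h2 := hPP w
        rw [h1, Matrix.mulVec_zero] at h2
        rw [Submodule.mem_bot]
        exact h2.symm
      · right
        rw [eq_top_iff]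
        intro w _
        have h1 : (P⁻¹).1 *ᵥ w ∈ W.comap (Matrix.toLin' P.1) := by
          rw [htop]
          exact Submodule.mem_top
        rw [Submodule.mem_comap, Matrix.toLin'_apply, hPP] at h1
        exact h1
    · intro X hX
      have hc : ∀ g ∈ H ⊓ Ib, ∀ M : Matrix (Fin 4) (Fin 4) F, g.1 = P.1 * M * (P⁻¹).1 →
          ((P⁻¹).1 * X * P.1) * M = M * ((P⁻¹).1 * X * P.1) := by
        intro g hg M hgM
        have h1 := hX g.1 (hmem g hg)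
        rw [hgM] at h1
        calc (P⁻¹).1 * X * P.1 * M = (P⁻¹).1 * (X * (P.1 * M * (P⁻¹).1)) * P.1 := by
              simp only [Matrix.mul_assoc, hPi, Matrix.mul_one]
          _ = (P⁻¹).1 * (P.1 * M * (P⁻¹).1 * X) * P.1 := by rw [h1]
          _ = M * ((P⁻¹).1 * X * P.1) := by
              simp only [Matrix.mul_assoc]
              rw [← Matrix.mul_assoc (P⁻¹).1 P.1, hPi, Matrix.one_mul]
      obtain ⟨c, hc'⟩ := su4tsn_comm ν (ν ^ q) hν _ (hc gU1 hgU1N _ hgU1)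
        (hc gU2 hgU2N _ hgU2) (hc gL1 hgL1N _ hgL1) (hc gS hgSN _ hgS)
      refine ⟨c, ?_⟩
      calc X = P.1 * ((P⁻¹).1 * X * P.1) * (P⁻¹).1 := by
            simp only [Matrix.mul_assoc, hPi', Matrix.mul_one]
            rw [← Matrix.mul_assoc P.1 (P⁻¹).1, hPi', Matrix.one_mul]
        _ = c • 1 := by rw [hc', Matrix.mul_smul, Matrix.mul_one, Matrix.smul_mul, hPi']
  · -- non-degeneracy
    intro v hv
    have ha : (P⁻¹).1 *ᵥ v ≠ 0 := by
      intro h0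
      apply hv
      have h2 := hPP v
      rw [h0, Matrix.mulVec_zero] at h2
      exact h2.symm
    obtain ⟨c, hc⟩ := su4tsn_b_nondeg _ ha
    constructor
    · refine ⟨P.1 *ᵥ c, ?_⟩
      show su4tsn_b ((P⁻¹).1 *ᵥ (P.1 *ᵥ c)) ((P⁻¹).1 *ᵥ v) ≠ 0
      rw [hPP', su4tsn_b_anti]
      exact neg_ne_zero.2 hc
    · refine ⟨P.1 *ᵥ c, ?_⟩
      show su4tsn_b ((P⁻¹).1 *ᵥ v) ((P⁻¹).1 *ᵥ (P.1 *ᵥ c)) ≠ 0
      rw [hPP']
      exact hc
  · -- the form is fixed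
    intro s hs u v
    obtain ⟨g, hg, rfl⟩ := hs
    exact (hIb g).1 (Subgroup.mem_inf.1 hg).2 u v

end Cfsg.Agent.Lib.Helper62.SU4TSN
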