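import Cfsg.Agent.Lib.Helper4.TPDefs

/-!
# Project TP (S4033, helper4): piece FTG (helper62)
-/

namespace Cfsg.Agent.Lib.Helper4.TP

universe u

theorem ftg : FTAbsStmt.{u} → NCRStmt.{u} → UCStmt.{u} → FTStmt.{u} := by
  intro hFT hNCR hUC G _ _ p m t hp hH hA hTP ht htp T y hyT hyc hcomm hyt
  have : Fact t.Prime := ⟨ht⟩
  -- `y` is a noncentral `p`-regular element
  have hyNC : NC p y := by
    refine ⟨?_, hyc⟩
    obtain ⟨k, hk⟩ := (IsPGroup.iff_orderOf.mp T.isPGroup') ⟨y, hyT⟩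
    rw [Subgroup.orderOf_mk] at hk
    unfold PReg
    rw [hk]
    exact Nat.Coprime.pow_left k ((Nat.coprime_primes ht hp).mpr htp)
  -- a prime `r ≠ p, t` with a noncentral `r`-element
  obtain ⟨r, z, hr, hrp, hrt, hzc, hzo⟩ : ∃ (r : ℕ) (z : G), r.Prime ∧ r ≠ p ∧ r ≠ t ∧
      z ∉ Subgroup.center G ∧ ∃ k, orderOf z = r ^ k := by
    obtain ⟨q, r, x, z, hq, hr, hqp, hrp, hqr, hxc, hzc, hxo, hzo⟩ := hTP
    by_cases hqt : q = t
    · exact ⟨r, z, hr, hrp, fun h => hqr (hqt.trans h.symm), hzc, hzo⟩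
    · exact ⟨q, x, hq, hqp, hqt, hxc, hxo⟩
  have : Fact r.Prime := ⟨hr⟩
  obtain ⟨w, hwC, hwc, hwo⟩ := hNCR G p m r hp hH hr hrp z hzc hzo y hyNC
  obtain ⟨U, hU, hUc⟩ := hUC G p r hp hr hrp hA y hyNC
  have hwU : w ∈ U := (hU w).mpr ⟨hwC, hwo⟩
  -- conjugation by elements of `T` preserves `Cen y`
  have hconj : ∀ g ∈ T, ∀ h ∈ Cen y, g * h * g⁻¹ ∈ Cen y := by
    intro g hg h hh
    have hc := hcomm g hg
    rw [Subgroup.mem_center_iff] at hc
    have hhy : y * h = h * y := Subgroup.mem_centralizer_iff.mp hh y rfl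
    refine Subgroup.mem_centralizer_iff.mpr ?_
    intro x hx
    rw [Set.mem_singleton_iff] at hx
    rw [hx]
    have key : (g * y * g⁻¹ * y⁻¹) * (y * (g * h * g⁻¹)) =
        (g * y * g⁻¹ * y⁻¹) * (g * h * g⁻¹ * y) := by
      calc (g * y * g⁻¹ * y⁻¹) * (y * (g * h * g⁻¹)) = g * (y * h) * g⁻¹ := by group
        _ = g * (h * y) * g⁻¹ := by rw [hhy]
        _ = (g * h * g⁻¹) * (g * y * g⁻¹ * y⁻¹) * y := by group
        _ = (g * y * g⁻¹ * y⁻¹) * (g * h * g⁻¹) * y := by rw [hc (g * h * g⁻¹)]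
        _ = (g * y * g⁻¹ * y⁻¹) * (g * h * g⁻¹ * y) := by rw [mul_assoc]
    exact mul_left_cancel key
  have hTN : (T : Subgroup G) ≤ Subgroup.normalizer (U : Set G) := by
    intro g hg
    rw [Subgroup.mem_normalizer_iff]
    intro h
    constructor
    · intro hh
      obtain ⟨h1, h2⟩ := (hU h).mp hh
      refine (hU _).mpr ⟨hconj g hg h h1, ?_⟩
      obtain ⟨k, hk⟩ := h2
      exact ⟨k, by rw [← hk]; exact (MulAut.conj g).orderOf_eq h⟩
    · intro hh
      obtain ⟨h1, h2⟩ := (hU _).mp hh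
      have h3 := hconj g⁻¹ (inv_mem hg) _ h1
      have e : g⁻¹ * (g * h * g⁻¹) * g⁻¹⁻¹ = h := by group
      rw [e] at h3
      refine (hU h).mpr ⟨h3, ?_⟩
      obtain ⟨k, hk⟩ := h2
      exact ⟨k, by rw [← hk]; exact ((MulAut.conj g).orderOf_eq h).symm⟩
  have hUcoprime : (Nat.card U).Coprime t := by
    have hUp : IsPGroup r U := by
      rw [IsPGroup.iff_orderOf]
      intro u
      obtain ⟨k, hk⟩ := ((hU u).mp u.2).2
      exact ⟨k, by rw [← Subgroup.orderOf_coe]; exact hk⟩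
    obtain ⟨n, hn⟩ := IsPGroup.iff_card.mp hUp
    rw [hn]
    exact Nat.Coprime.pow_left n ((Nat.coprime_primes hr ht).mpr hrt)
  refine hFT G t ht (T : Subgroup G) U (U ⊓ Subgroup.center G) y T.isPGroup'
    (fun g hg => hcomm g hg) hyt hTN ?_ hUcoprime inf_le_left inf_le_right ?_ ?_ ?_
  · intro u hu v hv
    exact hUc v hv u ((hU u).mp hu).1
  · intro heq
    have hw2 : w ∈ U ⊓ Subgroup.center G := by rw [heq]; exact hwU
    exact hwc hw2.2
  · intro g hg hgC u hu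
    exact hUc u hu g hgC
  · intro g hg hgC u hu hgu
    refine ⟨hu, ?_⟩
    by_contra huc
    obtain ⟨huC, k, hk⟩ := (hU u).mp hu
    have huP : PReg p u := by
      unfold PReg
      rw [hk]
      exact Nat.Coprime.pow_left k ((Nat.coprime_primes hr hp).mpr hrp)
    have huNC : NC p u := ⟨huP, huc⟩
    have hyu : y ∈ Cen u := by
      refine Subgroup.mem_centralizer_iff.mpr ?_
      intro x hx
      rw [Set.mem_singleton_iff] at hx
      rw [hx]
      exact (Subgroup.mem_centralizer_iff.mp huC y rfl).symm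
    have h2 : Cen u ≤ Cen y := hA u y huNC hyNC.1 hyu
    apply hgC
    apply h2
    refine Subgroup.mem_centralizer_iff.mpr ?_
    intro x hx
    rw [Set.mem_singleton_iff] at hx
    rw [hx]
    exact hgu.symm

end Cfsg.Agent.Lib.Helper4.TP
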