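import Cfsg.Agent.Lib.Helper4.TPDefs

/-!
# Project TP (S4033, helper4): piece HC (helper62)
-/

namespace Cfsg.Agent.Lib.Helper4.TP

universe u

theorem hc : HCStmt.{u} := by
  intro G _ _ p hp hA g hg
  have hcomm : ∀ w : G, w ∈ Cen g → PReg p w → ∀ c ∈ Cen g, c * w = w * c := by
    intro w hw hwp c hc
    have h1 := hA g w hg hwp hw hc
    exact (Subgroup.mem_centralizer_iff.mp h1 w rfl).symm
  refine ⟨{ carrier := {w | w ∈ Cen g ∧ PReg p w}
            mul_mem' := ?_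
            one_mem' := ?_
            inv_mem' := ?_ }, ?_, ?_⟩
  · rintro a b ⟨ha, hap⟩ ⟨hb, hbp⟩
    refine ⟨mul_mem ha hb, ?_⟩
    have hab : Commute a b := hcomm b hb hbp a ha
    unfold PReg at *
    exact Nat.Coprime.of_dvd_left (hab.orderOf_mul_dvd_lcm.trans (Nat.lcm_dvd_mul _ _))
      (Nat.Coprime.mul_left hap hbp)
  · refine ⟨one_mem _, ?_⟩
    unfold PReg
    rw [orderOf_one]
    exact Nat.coprime_one_left _
  · rintro a ⟨ha, hap⟩
    refine ⟨inv_mem ha, ?_⟩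
    unfold PReg at *
    rwa [orderOf_inv]
  · intro w
    exact Iff.rfl
  · rintro w ⟨hw, hwp⟩ c hc
    exact hcomm w hw hwp c hc

end Cfsg.Agent.Lib.Helper4.TP
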