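import Cfsg.Agent.Lib.Helper4.TPDefs
import Cfsg.Agent.S4036

/-!
# Project TP (S4033, helper4): piece N4A (helper62)

Restrict `K ≤ MulAut A` to the `t`-primary component of `A` and apply `S4036`.
-/

namespace Cfsg.Agent.Lib.Helper4.TP

universe u

/-- restriction of an automorphism to the `t`-primary component -/
noncomputable def n4a_helper62_res (A : Type u) [CommGroup A] (t : ℕ) (k : MulAut A) :
    MulAut (CommGroup.primaryComponent A t) where
  toFun a := ⟨k a, by
    obtain ⟨n, hn⟩ := a.2
    exact ⟨n, by rw [← map_pow, hn, map_one]⟩⟩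
  invFun a := ⟨k.symm a, by
    obtain ⟨n, hn⟩ := a.2
    exact ⟨n, by rw [← map_pow, hn, map_one]⟩⟩
  left_inv a := Subtype.ext (k.symm_apply_apply a)
  right_inv a := Subtype.ext (k.apply_symm_apply a)
  map_mul' a b := Subtype.ext (map_mul k (a : A) (b : A))

theorem n4a_helper62_res_apply (A : Type u) [CommGroup A] (t : ℕ) (k : MulAut A)
    (a : CommGroup.primaryComponent A t) : ((n4a_helper62_res A t k a : _) : A) = k (a : A) :=
  rfl

/-- the restriction homomorphism on `K` -/
noncomputable def n4a_helper62_psi (A : Type u) [CommGroup A] (t : ℕ) (K : Subgroup (MulAut A)) :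
    K →* MulAut (CommGroup.primaryComponent A t) where
  toFun k := n4a_helper62_res A t (k : MulAut A)
  map_one' := by
    ext a
    rfl
  map_mul' k l := by
    ext a
    rfl

theorem n4a_helper62_psi_apply (A : Type u) [CommGroup A] (t : ℕ) (K : Subgroup (MulAut A))
    (k : K) (a : CommGroup.primaryComponent A t) :
    ((n4a_helper62_psi A t K k a : _) : A) = (k : MulAut A) (a : A) :=
  rfl

theorem n4a : N4AStmt.{u} := by
  intro A _ _ K t ht hSF hMv htK N hN htN
  have : Fact t.Prime := ⟨ht⟩
  have hP : IsPGroup t (CommGroup.primaryComponent A t) := CommGroup.primaryComponent.isPGroup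
  obtain ⟨k0, hk0K, a0, ⟨i, ha0⟩, hk0a0⟩ := hMv
  have ha0P : a0 ∈ CommGroup.primaryComponent A t := ⟨i, by rw [← ha0, pow_orderOf_eq_one]⟩
  have hk0 : k0 ≠ 1 := by
    rintro rfl
    exact hk0a0 rfl
  have hker : ∀ k : K, n4a_helper62_psi A t K k = 1 → k = 1 := by
    intro k hk
    by_contra hk1
    have hk1' : (k : MulAut A) ≠ 1 := fun h => hk1 (Subtype.ext h)
    have h1 : (k : MulAut A) a0 = a0 := by
      have h2 := n4a_helper62_psi_apply A t K k ⟨a0, ha0P⟩
      rw [hk] at h2
      exact h2.symm
    exact hk0a0 ((hSF _ _ k.2 hk0K hk1' hk0 a0).mp h1)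
  have hψinj : Function.Injective (n4a_helper62_psi A t K) :=
    (injective_iff_map_eq_one _).mpr hker
  have hcardK : Nat.card (n4a_helper62_psi A t K).range = Nat.card K :=
    (Nat.card_congr (MonoidHom.ofInjective hψinj).toEquiv).symm
  have hSF' : ∀ x y : MulAut (CommGroup.primaryComponent A t),
      x ∈ (n4a_helper62_psi A t K).range → y ∈ (n4a_helper62_psi A t K).range → x ≠ 1 → y ≠ 1 →
      ∀ v : CommGroup.primaryComponent A t, x v = v ↔ y v = v := by
    rintro x y ⟨kx, rfl⟩ ⟨ky, rfl⟩ hx hy v
    have hkx : (kx : MulAut A) ≠ 1 := by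
      intro h
      apply hx
      have h3 : kx = 1 := Subtype.ext h
      rw [h3, map_one]
    have hky : (ky : MulAut A) ≠ 1 := by
      intro h
      apply hy
      have h3 : ky = 1 := Subtype.ext h
      rw [h3, map_one]
    have h4 := hSF _ _ kx.2 ky.2 hkx hky (v : A)
    constructor
    · intro h
      apply Subtype.ext
      rw [n4a_helper62_psi_apply]
      exact h4.mp (by rw [← n4a_helper62_psi_apply A t K kx v, h])
    · intro h
      apply Subtype.ext
      rw [n4a_helper62_psi_apply]
      exact h4.mpr (by rw [← n4a_helper62_psi_apply A t K ky v, h])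
  have hinj : Function.Injective ((MonoidHom.ofInjective hψinj).toMonoidHom) :=
    (MonoidHom.ofInjective hψinj).injective
  have key := Cfsg.Agent.S4036.result hP (n4a_helper62_psi A t K).range
    (by rw [hcardK]; exact htK) hSF'
    (N.map (MonoidHom.ofInjective hψinj).toMonoidHom)
    (hN.map _ (MonoidHom.ofInjective hψinj).surjective)
    (by
      rw [Subgroup.card_map_of_injective hinj]
      exact htN)
  exact (Subgroup.map_eq_bot_iff_of_injective N hinj).mp key

end Cfsg.Agent.Lib.Helper4.TP
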